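import Mathlib

/-!
# Orbits of anti-Hermitian forms under the general linear group

Over a field with `q ^ 2` elements a non-zero anti-Hermitian form in dimension `m` has at least
`(q ^ (2 m) - 1) / (q + 1)` equivalent forms, also when for `m ≥ 2` only changes of variable with fixed
determinant are allowed.
-/

set_option autoImplicit false
set_option linter.unusedSectionVars false

namespace Cfsg.Lib.Linear.SUDegree

open Module Matrix

variable {F : Type*} [Field F] {σ : F →+* F}

section General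

variable {V : Type*} [AddCommGroup V] [Module F V] [FiniteDimensional F V]

theorem exists_linear_iso_functional {φ l : Module.Dual F V} (hφ : φ ≠ 0) (hl : l ≠ 0) :
    ∃ g : V ≃ₗ[F] V, φ ∘ₗ g.toLinearMap = l := by
  obtain ⟨y, hy⟩ : ∃ y, l y = 1 := by
    obtain ⟨k, hk⟩ : ∃ k, l k ≠ 0 := by
      by_contra hno
      push Not at hno
      exact hl (LinearMap.ext hno)
    exact ⟨(l k)⁻¹ • k, by rw [map_smul, smul_eq_mul, inv_mul_cancel₀ hk]⟩
  obtain ⟨z, hz⟩ : ∃ z, φ z = 1 := by
    obtain ⟨k, hk⟩ : ∃ k, φ k ≠ 0 := by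
      by_contra hno
      push Not at hno
      exact hφ (LinearMap.ext hno)
    exact ⟨(φ k)⁻¹ • k, by rw [map_smul, smul_eq_mul, inv_mul_cancel₀ hk]⟩
  have hdim : finrank F (LinearMap.ker l) = finrank F (LinearMap.ker φ) := by
    have h1 := LinearMap.finrank_range_add_finrank_ker l
    have h2 := LinearMap.finrank_range_add_finrank_ker φ
    rw [LinearMap.range_eq_top.2 (fun a => ⟨a • y, by simp [hy]⟩ : Function.Surjective l), finrank_top,
      Module.finrank_self] at h1
    rw [LinearMap.range_eq_top.2 (fun a => ⟨a • z, by simp [hz]⟩ : Function.Surjective φ), finrank_top,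
      Module.finrank_self] at h2
    omega
  obtain ⟨ι⟩ := FiniteDimensional.nonempty_linearEquiv_of_finrank_eq hdim
  obtain ⟨π, hπ⟩ : ∃ π : V →ₗ[F] LinearMap.ker l, ∀ x, (π x : V) = x - l x • y :=
    ⟨LinearMap.codRestrict (LinearMap.ker l) (LinearMap.id - l.smulRight y) (fun x => by simp [hy]), fun x => rfl⟩
  obtain ⟨f, hf⟩ : ∃ f : V →ₗ[F] V, ∀ x, f x = (ι (π x) : V) + l x • z :=
    ⟨(LinearMap.ker φ).subtype ∘ₗ ι.toLinearMap ∘ₗ π + l.smulRight z, fun x => rfl⟩
  have hφf : ∀ x, φ (f x) = l x := fun x => by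
    rw [hf, map_add, LinearMap.mem_ker.1 (ι _).2, map_smul, hz]; simp
  have hinj : Function.Injective f := (injective_iff_map_eq_zero f).2 fun x hx => by
    have h1 : l x = 0 := by rw [← hφf, hx, map_zero]
    rw [hf, h1, zero_smul, add_zero, Submodule.coe_eq_zero, LinearEquiv.map_eq_zero_iff] at hx
    have := hπ x
    rw [hx, h1, zero_smul, sub_zero] at this
    exact this.symm
  exact ⟨LinearEquiv.ofBijective f ⟨hinj, LinearMap.injective_iff_surjective.1 hinj⟩, LinearMap.ext hφf⟩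

/-- A change of variable moving a vector and a functional to given ones. -/
theorem exists_linear_iso_pair {φ l : Module.Dual F V} (hφ : φ ≠ 0) (hl : l ≠ 0) {e v : V} (he : e ≠ 0) (hv : v ≠ 0)
    (h : l e = φ v) : ∃ g : V ≃ₗ[F] V, g e = v ∧ φ ∘ₗ g.toLinearMap = l := by
  obtain ⟨g₀, hg₀⟩ := exists_linear_iso_functional hφ hl
  have hw : g₀ e ≠ 0 := (LinearEquiv.map_ne_zero_iff g₀).2 he
  obtain ⟨β, hβw, hβv⟩ : ∃ β : Module.Dual F V, β (g₀ e) ≠ 0 ∧ β v ≠ 0 := by
    obtain ⟨β₁, h1, -⟩ := Submodule.exists_dual_map_eq_bot_of_notMem (p := (⊥ : Submodule F V))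
      (show g₀ e ∉ (⊥ : Submodule F V) by simpa using hw) inferInstance
    obtain ⟨β₂, h2, -⟩ := Submodule.exists_dual_map_eq_bot_of_notMem (p := (⊥ : Submodule F V))
      (show v ∉ (⊥ : Submodule F V) by simpa using hv) inferInstance
    by_cases h3 : β₁ v = 0
    · by_cases h4 : β₂ (g₀ e) = 0
      · exact ⟨β₁ + β₂, by simp [h4, h1], by simp [h3, h2]⟩
      · exact ⟨β₂, h4, h2⟩
    · exact ⟨β₁, h1, h3⟩
  obtain ⟨k, hk⟩ : ∃ k : V →ₗ[F] V, ∀ x, k x = x + ((β (g₀ e))⁻¹ * β x) • (v - g₀ e) :=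
    ⟨LinearMap.id + ((β (g₀ e))⁻¹ • β).smulRight (v - g₀ e), fun x => rfl⟩
  have hinj : Function.Injective k := (injective_iff_map_eq_zero k).2 fun x hx => by
    have h1 := congrArg β hx
    rw [hk, map_add, map_smul, map_sub, map_zero, smul_eq_mul] at h1
    have h2 : β x * β v = 0 := by
      have h3 : β x + (β (g₀ e))⁻¹ * β x * (β v - β (g₀ e)) = β x * β v * (β (g₀ e))⁻¹ := by field_simp; ring
      rw [h3, mul_eq_zero] at h1
      exact h1.resolve_right (inv_ne_zero hβw)
    rw [hk, (mul_eq_zero.1 h2).resolve_right hβv, mul_zero, zero_smul, add_zero] at hx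
    exact hx
  refine ⟨g₀.trans (LinearEquiv.ofBijective k ⟨hinj, LinearMap.injective_iff_surjective.1 hinj⟩), ?_, ?_⟩
  · show k (g₀ e) = v
    rw [hk, inv_mul_cancel₀ hβw, one_smul, add_sub_cancel]
  · refine LinearMap.ext fun x => ?_
    show φ (k (g₀ x)) = l x
    have e1 : ∀ y, φ (g₀ y) = l y := fun y => LinearMap.congr_fun hg₀ y
    rw [hk, map_add, map_smul, map_sub, e1, e1, h, sub_self, smul_zero, add_zero]

/-- A scaling in one direction. -/
theorem exists_scaling (β : Module.Dual F V) {y : V} (hy : β y = 1) {b : F} (hb : b ≠ 0) :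
    ∃ k : V ≃ₗ[F] V, LinearMap.det k.toLinearMap = b ∧ ∀ x, k x = x + ((b - 1) * β x) • y := by
  obtain ⟨f, hf⟩ : ∃ f : V →ₗ[F] V, f = LinearMap.transvection ((b - 1) • β) y := ⟨_, rfl⟩
  have hdet : LinearMap.det f = b := by
    rw [hf, LinearMap.transvection.det, LinearMap.smul_apply, smul_eq_mul, hy]; ring
  have hfx : ∀ x, f x = x + ((b - 1) * β x) • y := fun x => by
    rw [hf, LinearMap.transvection.apply, LinearMap.smul_apply, smul_eq_mul]
  have hinj : Function.Injective f := (injective_iff_map_eq_zero f).2 fun x hx => by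
    have h1 := congrArg β hx
    rw [hfx, map_add, map_smul, hy, map_zero, smul_eq_mul, mul_one] at h1
    have h2 : b * β x = 0 := by linear_combination h1
    rw [hfx, (mul_eq_zero.1 h2).resolve_left hb, mul_zero, zero_smul, add_zero] at hx
    exact hx
  exact ⟨LinearEquiv.ofBijective f ⟨hinj, LinearMap.injective_iff_surjective.1 hinj⟩, hdet, hfx⟩

end General

variable [Fintype F] [DecidableEq F]

/-- The conjugate transpose. -/
def st (σ : F →+* F) {ι κ : Type*} (A : Matrix ι κ F) : Matrix κ ι F := (A.map σ)ᵀ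

/-- The sesquilinear value. -/
def sesq (σ : F →+* F) {m : ℕ} (N : Matrix (Fin m) (Fin m) F) (u v : Fin m → F) : F :=
  (fun i => σ (u i)) ⬝ᵥ (N *ᵥ v)

section Sesq

variable {m : ℕ} (N : Matrix (Fin m) (Fin m) F)

theorem sesq_add_left (u u' v : Fin m → F) : sesq σ N (u + u') v = sesq σ N u v + sesq σ N u' v := by
  simp [sesq, dotProduct, add_mul, Finset.sum_add_distrib]

theorem sesq_smul_left (a : F) (u v : Fin m → F) : sesq σ N (a • u) v = σ a * sesq σ N u v := by
  simp [sesq, dotProduct, Finset.mul_sum, mul_assoc]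

theorem sesq_add_right (u v v' : Fin m → F) : sesq σ N u (v + v') = sesq σ N u v + sesq σ N u v' := by
  simp [sesq, Matrix.mulVec_add]

theorem sesq_smul_right (a : F) (u v : Fin m → F) : sesq σ N u (a • v) = a * sesq σ N u v := by
  simp [sesq, Matrix.mulVec_smul]

theorem sesq_single (i j : Fin m) : sesq σ N (Pi.single i 1) (Pi.single j 1) = N i j := by
  simp [sesq, dotProduct, Pi.single_apply, apply_ite σ]

theorem sesq_conj (g : (Fin m → F) →ₗ[F] (Fin m → F)) (u v : Fin m → F) :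
    sesq σ (st σ (LinearMap.toMatrix' g) * N * LinearMap.toMatrix' g) u v = sesq σ N (g u) (g v) := by
  simp only [sesq, ← Matrix.mulVec_mulVec, LinearMap.toMatrix'_mulVec, st]
  rw [Matrix.dotProduct_transpose_mulVec, dotProduct_comm]
  congr 1
  funext i
  rw [← LinearMap.toMatrix'_mulVec g u, RingHom.map_mulVec]
  rfl

theorem sesq_skew (hσ2 : ∀ a, σ (σ a) = a) (hN : st σ N = -N) (u v : Fin m → F) :
    sesq σ N u v = -σ (sesq σ N v u) := by
  simp only [sesq, dotProduct, Matrix.mulVec, map_sum, map_mul, hσ2, Finset.mul_sum]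
  rw [Finset.sum_comm, ← Finset.sum_neg_distrib]
  refine Finset.sum_congr rfl fun j _ => ?_
  rw [← Finset.sum_neg_distrib]
  refine Finset.sum_congr rfl fun i _ => ?_
  have h : σ (N j i) = -N i j := congrFun (congrFun hN i) j
  rw [h]; ring

/-- The functional of a vector. -/
def left (σ : F →+* F) (N : Matrix (Fin m) (Fin m) F) (u : Fin m → F) : Module.Dual F (Fin m → F) where
  toFun v := sesq σ N u v
  map_add' v v' := sesq_add_right N u v v'
  map_smul' a v := sesq_smul_right N a u v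

theorem left_apply (u v : Fin m → F) : left σ N u v = sesq σ N u v := rfl

end Sesq

set_option maxHeartbeats 800000 in
/-- The bound on orbits. -/
theorem orbit_ge {q k : ℕ} (hF : Fintype.card F = q ^ 2) (hσ2 : ∀ a, σ (σ a) = a)
    (hfix : Nat.card {a : F // σ a = a} = q) (hnorm1 : Nat.card {a : F // σ a * a = 1} ≤ q + 1)
    (hnorm : ∀ a : F, a ≠ 0 → σ a = a → ∃ t, σ t * t = a)
    {N : Matrix (Fin (k + 1)) (Fin (k + 1)) F} (hN : st σ N = -N) (hN0 : N ≠ 0)
    (O : Finset (Matrix (Fin (k + 1)) (Fin (k + 1)) F))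
    (hO : ∀ g : (Fin (k + 1) → F) ≃ₗ[F] (Fin (k + 1) → F),
      (1 ≤ k → σ (LinearMap.det g.toLinearMap) = LinearMap.det g.toLinearMap) →
      st σ (LinearMap.toMatrix' g.toLinearMap) * N * LinearMap.toMatrix' g.toLinearMap ∈ O) :
    q ^ (2 * (k + 1)) - 1 ≤ (q + 1) * O.card := by
  classical
  have hq : 2 ≤ q := by
    have h1 := Fintype.one_lt_card (α := F)
    rw [hF] at h1
    by_contra hlt
    have : q = 0 ∨ q = 1 := by omega
    rcases this with rfl | rfl <;> simp at h1
  obtain ⟨e, he⟩ : ∃ e : Fin (k + 1) → F, e = Pi.single 0 1 := ⟨_, rfl⟩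
  have he0 : e ≠ 0 := by rw [he]; simp
  have hmem : ∀ g : (Fin (k + 1) → F) ≃ₗ[F] (Fin (k + 1) → F),
      (1 ≤ k → σ (LinearMap.det g.toLinearMap) = LinearMap.det g.toLinearMap) →
      ∃ M ∈ O, ∀ u v, sesq σ M u v = sesq σ N (g u) (g v) := fun g hg =>
    ⟨_, hO g hg, fun u v => sesq_conj N g.toLinearMap u v⟩
  have hdual : Fintype.card (Fin (k + 1) → F) = q ^ (2 * (k + 1)) := by
    rw [Fintype.card_fun, Fintype.card_fin, hF, ← pow_mul]
  obtain ⟨Lr, hLr⟩ : ∃ Lr : (Fin (k + 1) → F) ≃ₗ[F] Module.Dual F (Fin (k + 1) → F), ∀ r x, Lr r x = r ⬝ᵥ x :=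
    ⟨dotProductEquiv F (Fin (k + 1)), fun r x => rfl⟩
  have hLe : ∀ r, Lr r e = r 0 := fun r => by rw [hLr, he]; simp
  by_cases hA : ∃ v₀, sesq σ N v₀ v₀ = 0 ∧ ∃ z, sesq σ N v₀ z ≠ 0
  · obtain ⟨v₀, hv₀, z, hz⟩ := hA
    have hv00 : v₀ ≠ 0 := fun h => hz (by rw [h]; simp [sesq, dotProduct])
    -- an anisotropic vector
    obtain ⟨v₁, hv₁⟩ : ∃ v₁, sesq σ N v₁ v₁ ≠ 0 := by
      by_contra hno
      push Not at hno
      have key : ∀ t : F, t * sesq σ N v₀ z = σ (t * sesq σ N v₀ z) := fun t => by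
        have h := hno (v₀ + t • z)
        rw [sesq_add_left, sesq_add_right, sesq_add_right, sesq_smul_left, sesq_smul_right, sesq_smul_left,
          sesq_smul_right, hno v₀, hno z, sesq_skew N hσ2 hN z v₀] at h
        rw [map_mul]
        linear_combination h
      have hall : ∀ a : F, σ a = a := fun a => by
        have := key (a * (sesq σ N v₀ z)⁻¹)
        rwa [mul_assoc, inv_mul_cancel₀ hz, mul_one, eq_comm] at this
      have : Nat.card {a : F // σ a = a} = Nat.card F := Nat.card_congr (Equiv.subtypeUnivEquiv hall)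
      rw [hfix, Nat.card_eq_fintype_card, hF, sq] at this
      nlinarith
    -- the functionals occurring as first rows
    obtain ⟨U, hU⟩ : ∃ U : Finset (Fin (k + 1) → F), U = O.image fun M => Lr.symm (left σ M e) := ⟨_, rfl⟩
    have hUO : U.card ≤ O.card := hU ▸ Finset.card_image_le
    have hinU : ∀ (g : (Fin (k + 1) → F) ≃ₗ[F] (Fin (k + 1) → F)),
        (1 ≤ k → σ (LinearMap.det g.toLinearMap) = LinearMap.det g.toLinearMap) →
        ∀ r, (∀ x, Lr r x = sesq σ N (g e) (g x)) → r ∈ U := by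
      intro g hg r hr
      obtain ⟨M, hM, hMe⟩ := hmem g hg
      rw [hU, Finset.mem_image]
      refine ⟨M, hM, Lr.injective ?_⟩
      rw [LinearEquiv.apply_symm_apply]
      exact LinearMap.ext fun x => by rw [left_apply, hMe, hr]
    have hk : 1 ≤ k := by
      by_contra h0
      obtain rfl : k = 0 := by omega
      have hfun : ∀ w : Fin 1 → F, w = w 0 • Pi.single 0 1 := fun w => by
        funext i; rw [Fin.fin_one_eq_zero i]; simp
      refine hN0 (Matrix.ext fun i j => ?_)
      rw [Fin.fin_one_eq_zero i, Fin.fin_one_eq_zero j, ← sesq_single N, Matrix.zero_apply]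
      have h1 := hv₀
      rw [hfun v₀, sesq_smul_left, sesq_smul_right, mul_eq_zero, mul_eq_zero] at h1
      have h2 : v₀ 0 ≠ 0 := fun h => hv00 (by rw [hfun v₀, h, zero_smul])
      rcases h1 with h | h | h
      · exact absurd ((map_eq_zero σ).1 h) h2
      · exact absurd h h2
      · exact h
    -- first rows with an anisotropic corner
    obtain ⟨P, hP⟩ : ∃ P : Finset (Fin (k + 1) → F),
        P = Finset.univ.filter fun r => r 0 ≠ 0 ∧ σ (r 0) = -r 0 := ⟨_, rfl⟩
    have hPU : P ⊆ U := by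
      intro r hr
      rw [hP, Finset.mem_filter] at hr
      obtain ⟨-, hr0, hrs⟩ := hr
      obtain ⟨t, ht⟩ := hnorm (r 0 / sesq σ N v₁ v₁) (div_ne_zero hr0 hv₁) (by
        rw [map_div₀, hrs, show σ (sesq σ N v₁ v₁) = -sesq σ N v₁ v₁ by
          conv_rhs => rw [sesq_skew N hσ2 hN v₁ v₁, neg_neg], neg_div_neg_eq])
      obtain ⟨v, hv⟩ : ∃ v, v = t • v₁ := ⟨_, rfl⟩
      have hvv : sesq σ N v v = r 0 := by
        rw [hv, sesq_smul_left, sesq_smul_right, ← mul_assoc, ht, div_mul_cancel₀ _ hv₁]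
      have hv0 : v ≠ 0 := fun h => hr0 (by rw [← hvv, h]; simp [sesq, dotProduct])
      have hl : Lr r ≠ 0 := fun h => hr0 (by rw [← hLe r, h]; rfl)
      have hφ : left σ N v ≠ 0 := fun h => hr0 (by rw [← hvv, ← left_apply, h]; rfl)
      obtain ⟨g, hge, hgl⟩ := exists_linear_iso_pair hφ hl he0 hv0 (by rw [hLe, left_apply, hvv])
      obtain ⟨y, hy, hye⟩ : ∃ y, Lr r y = 0 ∧ y ∉ Submodule.span F {e} := by
        obtain ⟨j, hj⟩ : ∃ j : Fin (k + 1), j ≠ 0 :=
          ⟨⟨1, by omega⟩, fun h => absurd (congrArg Fin.val h) (by simp)⟩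
        refine ⟨(Pi.single j 1 : Fin (k + 1) → F) - (Lr r (Pi.single j 1) / r 0) • e, ?_, fun h => ?_⟩
        · rw [map_sub, map_smul, hLe, smul_eq_mul, div_mul_cancel₀ _ hr0, sub_self]
        · obtain ⟨a, ha⟩ := Submodule.mem_span_singleton.1 h
          have := congrFun ha j
          simp [he, hj] at this
      obtain ⟨β, hβy, hβS⟩ := Submodule.exists_dual_map_eq_bot_of_notMem hye inferInstance
      have hβe : β e = 0 := by
        have : β e ∈ (Submodule.span F {e}).map β := ⟨e, Submodule.mem_span_singleton_self e, rfl⟩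
        rwa [hβS, Submodule.mem_bot] at this
      have hd : LinearMap.det g.toLinearMap ≠ 0 := (LinearEquiv.isUnit_det' g).ne_zero
      obtain ⟨κ, hκd, hκ⟩ := exists_scaling ((β y)⁻¹ • β) (y := y)
        (by rw [LinearMap.smul_apply, smul_eq_mul, inv_mul_cancel₀ hβy]) (inv_ne_zero hd)
      refine hinU (κ.trans g) (fun _ => ?_) r fun x => ?_
      · rw [show (κ.trans g).toLinearMap = g.toLinearMap ∘ₗ κ.toLinearMap from rfl, LinearMap.det_comp, hκd,
          mul_inv_cancel₀ hd, map_one]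
      · show Lr r x = sesq σ N (g (κ e)) (g (κ x))
        have e1 : κ e = e := by rw [hκ, LinearMap.smul_apply, hβe, smul_zero, mul_zero, zero_smul, add_zero]
        rw [e1, hge, ← left_apply]
        have := LinearMap.congr_fun hgl (κ x)
        rw [show left σ N v (g (κ x)) = Lr r (κ x) from this, hκ, map_add, map_smul, hy, smul_zero, add_zero]
    -- first rows with an isotropic corner
    obtain ⟨Z, hZ⟩ : ∃ Z : Finset (Fin (k + 1) → F), Z = Finset.univ.filter fun r => r ≠ 0 ∧ r 0 = 0 := ⟨_, rfl⟩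
    obtain ⟨S, hS⟩ : ∃ S : Finset F, S = Finset.univ.filter fun a => a ≠ 0 ∧ σ a = a := ⟨_, rfl⟩
    have hgs : ∀ r ∈ Z, ∃ g : (Fin (k + 1) → F) ≃ₗ[F] (Fin (k + 1) → F),
        g e = v₀ ∧ (left σ N v₀) ∘ₗ g.toLinearMap = Lr r := by
      intro r hr
      rw [hZ, Finset.mem_filter] at hr
      exact exists_linear_iso_pair (fun h => hz (by rw [← left_apply, h]; rfl))
        ((LinearEquiv.map_ne_zero_iff Lr).2 hr.2.1) he0 hv00 (by rw [hLe, hr.2.2, left_apply, hv₀])
    choose g hge hgl using hgs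
    obtain ⟨f, hf⟩ : ∃ f : (Fin (k + 1) → F) × F → (Fin (k + 1) → F),
        ∀ p (h : p.1 ∈ Z), f p = (p.2 / LinearMap.det (g p.1 h).toLinearMap) • p.1 :=
      ⟨fun p => if h : p.1 ∈ Z then (p.2 / LinearMap.det (g p.1 h).toLinearMap) • p.1 else 0,
        fun p h => dif_pos h⟩
    obtain ⟨T, hT⟩ : ∃ T, T = (Z ×ˢ S).image f := ⟨_, rfl⟩
    have hmemZS : ∀ p ∈ Z ×ˢ S, ∃ h : p.1 ∈ Z, p.2 ≠ 0 ∧ σ p.2 = p.2 ∧ p.1 ≠ 0 ∧ p.1 0 = 0 := by
      intro p hp
      obtain ⟨h1, h2⟩ := Finset.mem_product.1 hp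
      refine ⟨h1, ?_⟩
      rw [hZ, Finset.mem_filter] at h1
      rw [hS, Finset.mem_filter] at h2
      exact ⟨h2.2.1, h2.2.2, h1.2.1, h1.2.2⟩
    have hTU : T ⊆ U := by
      intro r' hr'
      rw [hT, Finset.mem_image] at hr'
      obtain ⟨⟨r, b⟩, hp, rfl⟩ := hr'
      obtain ⟨h, hb0, hbs, hr0, hre⟩ := hmemZS _ hp
      rw [hf _ h]
      simp only at h hb0 hbs hr0 hre ⊢
      have hd : LinearMap.det (g r h).toLinearMap ≠ 0 := (LinearEquiv.isUnit_det' _).ne_zero
      obtain ⟨j, hj⟩ : ∃ j, r j ≠ 0 := Function.ne_iff.1 hr0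
      have hy : Lr r ((r j)⁻¹ • (Pi.single j 1 : Fin (k + 1) → F)) = 1 := by
        rw [map_smul, smul_eq_mul, hLr, dotProduct_single, mul_one, inv_mul_cancel₀ hj]
      obtain ⟨κ, hκd, hκ⟩ := exists_scaling (Lr r) hy (div_ne_zero hb0 hd)
      refine hinU (κ.trans (g r h)) (fun _ => ?_) _ fun x => ?_
      · rw [show (κ.trans (g r h)).toLinearMap = (g r h).toLinearMap ∘ₗ κ.toLinearMap from rfl,
          LinearMap.det_comp, hκd, mul_div_cancel₀ _ hd, hbs]
      · show Lr _ x = sesq σ N (g r h (κ e)) (g r h (κ x))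
        have e1 : κ e = e := by rw [hκ, hLe, hre, mul_zero, zero_smul, add_zero]
        rw [e1, hge r h]
        have := LinearMap.congr_fun (hgl r h) (κ x)
        rw [show sesq σ N v₀ (g r h (κ x)) = Lr r (κ x) from this, hκ, map_add, map_smul _ ((b / _ - 1) * _), hy,
          map_smul, LinearMap.smul_apply, smul_eq_mul, smul_eq_mul]
        ring
    have hZc : Z.card = q ^ (2 * k) - 1 := by
      obtain ⟨Z0, hZ0⟩ : ∃ Z0 : Finset (Fin (k + 1) → F), Z0 = Finset.univ.filter fun r => r 0 = 0 := ⟨_, rfl⟩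
      have h1 : Z = Z0.erase 0 := by ext r; simp [hZ, hZ0]
      rw [h1, Finset.card_erase_of_mem (by simp [hZ0]), hZ0, ← Fintype.card_subtype,
        Fintype.card_congr (β := Fin k → F) ⟨fun r => Fin.tail r.1, fun t => ⟨Fin.cons 0 t, rfl⟩,
          fun r => Subtype.ext (by
            funext i
            refine Fin.cases ?_ (fun i => ?_) i
            · simp [r.2]
            · simp [Fin.tail]),
          fun t => by simp⟩,
        Fintype.card_fun, Fintype.card_fin, hF, ← pow_mul]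
    have hSc : S.card = q - 1 := by
      have h1 : S = (Finset.univ.filter fun a : F => σ a = a).erase 0 := by ext a; simp [hS]
      rw [h1, Finset.card_erase_of_mem (by simp), ← Fintype.card_subtype, ← Nat.card_eq_fintype_card, hfix]
    have hTc : (q ^ (2 * k) - 1) * (q - 1) ≤ (q ^ 2 - 1) * T.card := by
      rw [← hZc, ← hSc, ← Finset.card_product, hT]
      refine Finset.card_le_mul_card_image _ _ fun r' hr' => ?_
      refine (Finset.card_le_card_of_injOn
        (fun p => if h : p.1 ∈ Z then p.2 / LinearMap.det (g p.1 h).toLinearMap else 0)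
        (t := Finset.univ.erase 0) (fun p hp => ?_) ?_).trans_eq
        (by rw [Finset.card_erase_of_mem (Finset.mem_univ _), Finset.card_univ, hF])
      · rw [Finset.mem_coe, Finset.mem_filter] at hp
        obtain ⟨h, hb0, -, -, -⟩ := hmemZS _ hp.1
        simp only [Finset.coe_erase, Set.mem_diff, Finset.coe_univ, Set.mem_univ, true_and, Set.mem_singleton_iff,
          dif_pos h]
        exact div_ne_zero hb0 (LinearEquiv.isUnit_det' _).ne_zero
      · intro p hp p' hp' heq
        rw [Finset.mem_coe, Finset.mem_filter] at hp hp'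
        obtain ⟨h, hb0, -, -, -⟩ := hmemZS _ hp.1
        obtain ⟨h', hb0', -, -, -⟩ := hmemZS _ hp'.1
        simp only [dif_pos h, dif_pos h'] at heq
        have e1 := hp.2.trans hp'.2.symm
        rw [hf _ h, hf _ h', ← heq] at e1
        have hr : p.1 = p'.1 :=
          smul_right_injective (Fin (k + 1) → F) (div_ne_zero hb0 (LinearEquiv.isUnit_det' (g p.1 h)).ne_zero) e1
        obtain ⟨r, b⟩ := p
        obtain ⟨r', b'⟩ := p'
        obtain rfl : r = r' := hr
        rw [div_left_inj' (LinearEquiv.isUnit_det' (g r h)).ne_zero] at heq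
        exact Prod.ext rfl heq
    have hPc : P.card = (q - 1) * q ^ (2 * k) := by
      obtain ⟨a₀, ha₀⟩ : ∃ a₀, a₀ = sesq σ N v₁ v₁ := ⟨_, rfl⟩
      have ha₀s : σ a₀ = -a₀ := by
        rw [ha₀]; conv_rhs => rw [sesq_skew N hσ2 hN v₁ v₁, neg_neg]
      have ha₀0 : a₀ ≠ 0 := ha₀ ▸ hv₁
      have e1 : P = ((Finset.univ : Finset (Fin k → F)) ×ˢ S).image fun p => Fin.cons (p.2 * a₀) p.1 := by
        ext r
        simp only [hP, hS, Finset.mem_filter, Finset.mem_univ, true_and, Finset.mem_image, Finset.mem_product]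
        constructor
        · rintro ⟨h1, h2⟩
          refine ⟨(Fin.tail r, r 0 / a₀), ⟨div_ne_zero h1 ha₀0, by rw [map_div₀, h2, ha₀s, neg_div_neg_eq]⟩, ?_⟩
          rw [div_mul_cancel₀ _ ha₀0, Fin.cons_self_tail]
        · rintro ⟨⟨t, a⟩, ⟨h1, h2⟩, rfl⟩
          simp only [Fin.cons_zero]
          exact ⟨mul_ne_zero h1 ha₀0, by rw [map_mul, h2, ha₀s, mul_neg]⟩
      rw [e1, Finset.card_image_of_injective _ (fun p p' h => by
          obtain ⟨h1, h2⟩ := Fin.cons_inj.1 h
          exact Prod.ext h2 (mul_right_cancel₀ ha₀0 h1)),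
        Finset.card_product, Finset.card_univ, Fintype.card_fun, Fintype.card_fin, hF, ← pow_mul, hSc, mul_comm]
    have hdisj : Disjoint P T := by
      refine Finset.disjoint_left.2 fun r hrP hrT => ?_
      rw [hP, Finset.mem_filter] at hrP
      rw [hT, Finset.mem_image] at hrT
      obtain ⟨p, hp, rfl⟩ := hrT
      obtain ⟨h, -, -, -, hre⟩ := hmemZS _ hp
      exact hrP.2.1 (by rw [hf _ h, Pi.smul_apply, hre, smul_zero])
    have hU2 : P.card + T.card ≤ O.card :=
      (Finset.card_union_of_disjoint hdisj).symm.trans_le ((Finset.card_le_card (Finset.union_subset hPU hTU)).trans hUO)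
    obtain ⟨a, ha⟩ : ∃ a, q = a + 1 := ⟨q - 1, by omega⟩
    obtain ⟨x, hx⟩ : ∃ x, q ^ (2 * k) = x + 1 := ⟨q ^ (2 * k) - 1, by
      have := Nat.one_le_pow (2 * k) q (by omega); omega⟩
    have hpow : q ^ (2 * (k + 1)) = (x + 1) * (q * q) := by
      rw [show 2 * (k + 1) = 2 * k + 2 by ring, pow_add, hx, sq]
    rw [hPc, hx] at hU2
    rw [hx] at hTc
    subst ha
    rw [show (a + 1) ^ 2 - 1 = a * (a + 2) by
      have : (a + 1) ^ 2 = a * (a + 2) + 1 := by ring
      omega] at hTc
    simp only [Nat.add_sub_cancel] at hTc hU2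
    have ha1 : 0 < a := by omega
    have hT' : x ≤ (a + 2) * T.card := Nat.le_of_mul_le_mul_left (show a * x ≤ a * ((a + 2) * T.card) by
      rw [← mul_assoc, mul_comm a x]; exact hTc) ha1
    rw [hpow]
    calc (x + 1) * ((a + 1) * (a + 1)) - 1 = (a + 2) * (a * (x + 1)) + x := by
          have : (x + 1) * ((a + 1) * (a + 1)) = (a + 2) * (a * (x + 1)) + x + 1 := by ring
          omega
      _ ≤ (a + 2) * (a * (x + 1) + T.card) := by
          rw [Nat.mul_add (a + 2) (a * (x + 1)) T.card]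
          exact Nat.add_le_add_left hT' _
      _ ≤ _ := Nat.mul_le_mul_left _ hU2
  · -- rank one
    push Not at hA
    obtain ⟨v, hv⟩ : ∃ v, sesq σ N v v ≠ 0 := by
      by_contra hno
      push Not at hno
      exact hN0 (Matrix.ext fun i j => by rw [← sesq_single (σ := σ) N, hA _ (hno _), Matrix.zero_apply])
    obtain ⟨c, hc⟩ : ∃ c, c = sesq σ N v v := ⟨_, rfl⟩
    have hcs : σ c = -c := by rw [hc]; conv_rhs => rw [sesq_skew N hσ2 hN v v, neg_neg]
    have hc0 : c ≠ 0 := hc ▸ hv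
    have hperp : ∀ x, sesq σ N v x = 0 → ∀ y, sesq σ N x y = 0 := by
      intro x hx
      refine hA x ?_
      by_contra hxx
      obtain ⟨t, ht⟩ := hnorm (-(sesq σ N x x) / c) (div_ne_zero (neg_ne_zero.2 hxx) hc0) (by
        rw [map_div₀, map_neg, hcs, show σ (sesq σ N x x) = -sesq σ N x x by
          conv_rhs => rw [sesq_skew N hσ2 hN x x, neg_neg], neg_neg, div_neg, neg_div])
      have ht0 : t ≠ 0 := fun h => by
        rw [h, mul_zero, eq_comm, div_eq_zero_iff, neg_eq_zero] at ht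
        exact ht.elim hxx hc0
      have hxv : sesq σ N x v = 0 := by rw [sesq_skew N hσ2 hN, hx, map_zero, neg_zero]
      have h0 : sesq σ N (x + t • v) (x + t • v) = 0 := by
        rw [sesq_add_left, sesq_add_right, sesq_add_right, sesq_smul_left, sesq_smul_right, sesq_smul_left,
          sesq_smul_right, hx, hxv, ← hc, ← mul_assoc, ht, div_mul_cancel₀ _ hc0]
        ring
      have := hA _ h0 v
      rw [sesq_add_left, sesq_smul_left, hxv, zero_add, ← hc, mul_eq_zero, map_eq_zero] at this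
      exact this.elim ht0 hc0
    have hform : ∀ x y, sesq σ N x y = -(σ (sesq σ N v x) * sesq σ N v y) / c := by
      intro x y
      obtain ⟨x', hx'⟩ : ∃ x', x' = x - (sesq σ N v x / c) • v := ⟨_, rfl⟩
      have e : x = x' + (sesq σ N v x / c) • v := by rw [hx']; abel
      have hvx' : sesq σ N v x' = 0 := by
        rw [hx', sub_eq_add_neg, sesq_add_right, ← neg_smul, sesq_smul_right, ← hc, neg_mul, div_mul_cancel₀ _ hc0,
          add_neg_cancel]
      conv_lhs => rw [e]
      rw [sesq_add_left, hperp x' hvx' y, sesq_smul_left, zero_add, map_div₀, hcs, div_neg, neg_mul]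
      ring
    have hφ : left σ N v ≠ 0 := fun h => hv (by rw [← left_apply, h]; rfl)
    have hgl : ∀ r : Fin (k + 1) → F, r ≠ 0 →
        ∃ M ∈ O, ∀ x y, sesq σ M x y = -(σ (Lr r x) * Lr r y) / c := by
      intro r hr
      obtain ⟨g, hg⟩ := exists_linear_iso_functional hφ ((LinearEquiv.map_ne_zero_iff Lr).2 hr)
      have hgx : ∀ x, sesq σ N v (g x) = Lr r x := fun x => LinearMap.congr_fun hg x
      rcases Nat.eq_zero_or_pos k with hk | hk
      · obtain ⟨M, hM, h⟩ := hmem g (fun h => absurd h (by omega))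
        exact ⟨M, hM, fun x y => by rw [h, hform, hgx, hgx]⟩
      obtain ⟨y, hy, hy0⟩ : ∃ y ∈ LinearMap.ker (Lr r), y ≠ 0 := by
        refine Submodule.exists_mem_ne_zero_of_ne_bot fun hbot => ?_
        have h1 := LinearMap.finrank_range_add_finrank_ker (Lr r)
        have h2 := Submodule.finrank_le (LinearMap.range (Lr r))
        rw [Module.finrank_self] at h2
        rw [hbot, finrank_bot, Module.finrank_fin_fun] at h1
        omega
      obtain ⟨β, hβ, -⟩ := Submodule.exists_dual_map_eq_bot_of_notMem (p := (⊥ : Submodule F (Fin (k + 1) → F)))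
        (show y ∉ (⊥ : Submodule F (Fin (k + 1) → F)) by simpa using hy0) inferInstance
      have hd : LinearMap.det g.toLinearMap ≠ 0 := (LinearEquiv.isUnit_det' g).ne_zero
      obtain ⟨κ, hκd, hκ⟩ := exists_scaling ((β y)⁻¹ • β) (y := y)
        (by rw [LinearMap.smul_apply, smul_eq_mul, inv_mul_cancel₀ hβ]) (inv_ne_zero hd)
      have hκr : ∀ x, Lr r (κ x) = Lr r x := fun x => by
        rw [hκ, map_add, map_smul, LinearMap.mem_ker.1 hy, smul_zero, add_zero]
      obtain ⟨M, hM, h⟩ := hmem (κ.trans g) (fun _ => by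
        rw [show (κ.trans g).toLinearMap = g.toLinearMap ∘ₗ κ.toLinearMap from rfl, LinearMap.det_comp, hκd,
          mul_inv_cancel₀ hd, map_one])
      refine ⟨M, hM, fun x y => ?_⟩
      rw [h, hform, show (κ.trans g) x = g (κ x) from rfl, show (κ.trans g) y = g (κ y) from rfl, hgx, hgx, hκr, hκr]
    choose f hfO hf using hgl
    obtain ⟨D, hD⟩ : ∃ D : Finset (Fin (k + 1) → F), D = Finset.univ.erase 0 := ⟨_, rfl⟩
    have hD0 : ∀ r ∈ D, r ≠ 0 := fun r hr => by rw [hD, Finset.mem_erase] at hr; exact hr.1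
    rw [← hdual, ← Finset.card_univ, ← Finset.card_erase_of_mem (Finset.mem_univ (0 : Fin (k + 1) → F)), ← hD]
    obtain ⟨f', hf'⟩ : ∃ f' : (Fin (k + 1) → F) → Matrix (Fin (k + 1)) (Fin (k + 1)) F,
        ∀ r (h : r ≠ 0), f' r = f r h :=
      ⟨fun r => if h : r ≠ 0 then f r h else 0, fun r h => dif_pos h⟩
    refine (Finset.card_le_mul_card_image (f := f') D (q + 1) fun M hM => ?_).trans
      (Nat.mul_le_mul_left _ (Finset.card_le_card fun M hM => ?_))
    · obtain ⟨r₁, hr₁, rfl⟩ := Finset.mem_image.1 hM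
      have h0 := hD0 r₁ hr₁
      refine (Finset.card_le_card (t := (Finset.univ.filter fun a : F => σ a * a = 1).image fun a => a • r₁)
        fun r hr => ?_).trans (Finset.card_image_le.trans ?_)
      · rw [Finset.mem_filter] at hr
        have h1 := hD0 r hr.1
        have hsame : ∀ x y, σ (Lr r x) * Lr r y = σ (Lr r₁ x) * Lr r₁ y := fun x y => by
          have h2 := hf r h1 x y
          rw [← hf' r h1, hr.2, hf' r₁ h0, hf r₁ h0, div_left_inj' hc0, neg_inj] at h2
          exact h2.symm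
        obtain ⟨y, hy⟩ : ∃ y, Lr r₁ y = 1 := by
          obtain ⟨j, hj⟩ : ∃ j, r₁ j ≠ 0 := Function.ne_iff.1 h0
          exact ⟨(r₁ j)⁻¹ • Pi.single j 1, by
            rw [map_smul, smul_eq_mul, hLr, dotProduct_single, mul_one, inv_mul_cancel₀ hj]⟩
        obtain ⟨a, ha⟩ : ∃ a, a = Lr r y := ⟨_, rfl⟩
        have haa : σ a * a = 1 := by rw [ha, hsame, hy, map_one, one_mul]
        refine Finset.mem_image.2 ⟨a, Finset.mem_filter.2 ⟨Finset.mem_univ _, haa⟩, ?_⟩
        refine Lr.injective (LinearMap.ext fun x => ?_)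
        have h3 := hsame y x
        rw [← ha, hy, map_one, one_mul] at h3
        rw [map_smul, LinearMap.smul_apply, smul_eq_mul, ← h3, ← mul_assoc, mul_comm a, haa, one_mul]
      · rw [← Fintype.card_subtype, ← Nat.card_eq_fintype_card]; exact hnorm1
    · obtain ⟨r, hr, rfl⟩ := Finset.mem_image.1 hM
      rw [hf' r (hD0 r hr)]
      exact hfO r _

end Cfsg.Lib.Linear.SUDegree
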