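import Cfsg.Agent.Lib.Linear.HermStandard
import Cfsg.Agent.Lib.Linear.SUDegree.Orbit

/-!
# A split model of the special unitary group and its Siegel parabolic subgroup
-/

set_option autoImplicit false
set_option linter.unusedSectionVars false

namespace Cfsg.Lib.Linear.SUDegree

open Matrix Cfsg.Lib.Linear.Herm

variable {F : Type*} [Field F] {σ : F →+* F}

section St

variable {ι κ μ' ι' κ' : Type*}

theorem st_mul [Fintype κ] (A : Matrix ι κ F) (B : Matrix κ μ' F) : st σ (A * B) = st σ B * st σ A := by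
  rw [st, Matrix.map_mul, transpose_mul, ← st, ← st]

theorem st_one [DecidableEq ι] : st σ (1 : Matrix ι ι F) = 1 := by
  rw [st, Matrix.map_one σ (map_zero σ) (map_one σ), transpose_one]

theorem st_zero : st σ (0 : Matrix ι κ F) = 0 := by ext; simp [st]

theorem st_add (A B : Matrix ι κ F) : st σ (A + B) = st σ A + st σ B := by ext; simp [st]

theorem st_neg (A : Matrix ι κ F) : st σ (-A) = -st σ A := by ext; simp [st]

theorem st_sub (A B : Matrix ι κ F) : st σ (A - B) = st σ A - st σ B := by ext; simp [st]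

theorem st_smul (a : F) (A : Matrix ι κ F) : st σ (a • A) = σ a • st σ A := by ext; simp [st]

theorem st_st (hσ2 : ∀ a, σ (σ a) = a) (A : Matrix ι κ F) : st σ (st σ A) = A := by ext; simp [st, hσ2]

theorem st_single [DecidableEq ι] [DecidableEq κ] (i : ι) (j : κ) (c : F) :
    st σ (Matrix.single i j c) = Matrix.single j i (σ c) := by
  ext a b
  by_cases h1 : i = b <;> by_cases h2 : j = a <;> simp [st, Matrix.single_apply, h1, h2]

theorem st_fromBlocks (A : Matrix ι κ F) (B : Matrix ι κ' F) (C : Matrix ι' κ F) (D : Matrix ι' κ' F) :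
    st σ (fromBlocks A B C D) = fromBlocks (st σ A) (st σ C) (st σ B) (st σ D) := by
  simp only [st, fromBlocks_map, fromBlocks_transpose]

theorem st_fromRows (A : Matrix ι κ F) (B : Matrix ι' κ F) :
    st σ (fromRows A B) = fromCols (st σ A) (st σ B) := by
  ext a (b | b) <;> simp [st]

theorem st_fromCols (A : Matrix ι κ F) (B : Matrix ι κ' F) :
    st σ (fromCols A B) = fromRows (st σ A) (st σ B) := by
  ext (a | a) b <;> simp [st]

theorem det_st [Fintype ι] [DecidableEq ι] (A : Matrix ι ι F) : (st σ A).det = σ A.det := by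
  rw [st, det_transpose, RingHom.map_det, RingHom.mapMatrix_apply]

end St

/-- The index type of the split model. -/
abbrev Idx (m ε : ℕ) := (Fin m ⊕ Fin m) ⊕ Fin ε

/-- The split Gram matrix. -/
def gram (F : Type*) [Field F] (m ε : ℕ) : Matrix (Idx m ε) (Idx m ε) F := fromBlocks (fromBlocks 0 1 1 0) 0 0 1

variable {m ε : ℕ}

theorem gram_sq : gram F m ε * gram F m ε = 1 := by
  rw [gram, fromBlocks_multiply]; simp [fromBlocks_multiply, fromBlocks_one]

theorem st_gram : st σ (gram F m ε) = gram F m ε := by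
  simp [gram, st_fromBlocks, st_zero, st_one]

/-- The model group. -/
def modelSub (σ : F →+* F) (m ε : ℕ) : Submonoid (Matrix (Idx m ε) (Idx m ε) F) where
  carrier := {A | st σ A * gram F m ε * A = gram F m ε ∧ A.det = 1}
  one_mem' := ⟨by rw [st_one, one_mul, mul_one], det_one⟩
  mul_mem' := fun {A B} hA hB => ⟨by
    rw [st_mul, show st σ B * st σ A * gram F m ε * (A * B) = st σ B * (st σ A * gram F m ε * A) * B by
      simp only [mul_assoc], hA.1, hB.1], by rw [det_mul, hA.2, hB.2, one_mul]⟩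

/-- The unipotent radical of the Siegel parabolic. -/
def uMat (σ : F →+* F) (H : Matrix (Fin m) (Fin m) F) (X : Matrix (Fin m) (Fin ε) F) :
    Matrix (Idx m ε) (Idx m ε) F :=
  fromBlocks (fromBlocks 1 H 0 1) (fromRows X 0) (fromCols 0 (-st σ X)) 1

theorem uMat_mul (H H' : Matrix (Fin m) (Fin m) F) (X X' : Matrix (Fin m) (Fin ε) F) :
    uMat σ H X * uMat σ H' X' = uMat σ (H + H' - X * st σ X') (X + X') := by
  ext a b
  rcases a with (a | a) | a <;> rcases b with (b | b) | b <;>
    simp [uMat, fromBlocks_multiply, fromRows_mul_fromCols, fromBlocks_mul_fromRows, fromCols_mul_fromBlocks,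
      fromCols_mul_fromRows, st_add] <;> ring

theorem uMat_zero : uMat σ (0 : Matrix (Fin m) (Fin m) F) (0 : Matrix (Fin m) (Fin ε) F) = 1 := by
  ext a b
  rcases a with (a | a) | a <;> rcases b with (b | b) | b <;> simp [uMat, st_zero, Matrix.one_apply]

theorem uMat_mem (hσ2 : ∀ a, σ (σ a) = a) {H : Matrix (Fin m) (Fin m) F} {X : Matrix (Fin m) (Fin ε) F}
    (h : H + st σ H + X * st σ X = 0) : uMat σ H X ∈ modelSub σ m ε := by
  refine ⟨?_, ?_⟩
  · rw [uMat, gram, st_fromBlocks, st_fromBlocks, st_fromRows, st_fromCols, st_one, st_zero, st_one, st_neg,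
      st_st hσ2, st_zero, st_zero]
    ext a b
    rcases a with (a | a) | a <;> rcases b with (b | b) | b <;>
      simp [fromBlocks_multiply, fromRows_mul_fromCols, fromBlocks_mul_fromRows, fromCols_mul_fromBlocks,
        fromCols_mul_fromRows, st_one]
    have := congrFun (congrFun h a) b
    simp only [Matrix.add_apply, Matrix.zero_apply] at this
    linear_combination this
  · rw [uMat, det_fromBlocks_one₂₂, fromRows_mul_fromCols, sub_eq_add_neg, fromBlocks_neg, fromBlocks_add]
    simp

/-- The Levi subgroup. -/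
def lMat (σ : F →+* F) (C C' : Matrix (Fin m) (Fin m) F) (μ : F) : Matrix (Idx m ε) (Idx m ε) F :=
  fromBlocks (fromBlocks C 0 0 (st σ C')) 0 0 (μ • 1)

theorem lMat_mem (hσ2 : ∀ a, σ (σ a) = a) {C C' : Matrix (Fin m) (Fin m) F} (hC : C * C' = 1) {μ : F}
    (hμ : σ μ * μ = 1) (hdet : C.det * σ C'.det * μ ^ ε = 1) : lMat (ε := ε) σ C C' μ ∈ modelSub σ m ε := by
  have h1 : C' * C = 1 := mul_eq_one_comm.mp hC
  refine ⟨?_, ?_⟩
  · simp only [lMat, gram, st_fromBlocks, st_zero, st_smul, st_one, st_st hσ2, fromBlocks_multiply]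
    simp [fromBlocks_multiply, ← st_mul, h1, st_one, smul_smul, hμ, mul_comm μ]
  · rw [lMat, det_fromBlocks_zero₁₂, det_fromBlocks_zero₁₂, det_st, det_smul, det_one, mul_one, Fintype.card_fin]
    exact hdet

theorem lMat_mul_uMat {C C' : Matrix (Fin m) (Fin m) F} (hC : C * C' = 1) (μ : F) (H : Matrix (Fin m) (Fin m) F) :
    lMat (ε := ε) σ C C' μ * uMat σ H 0 = uMat σ (C * H * st σ C) 0 * lMat σ C C' μ := by
  have h1 : st σ C * st σ C' = 1 := by rw [← st_mul, mul_eq_one_comm.mp hC, st_one]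
  ext a b
  rcases a with (a | a) | a <;> rcases b with (b | b) | b <;>
    simp [uMat, lMat, fromBlocks_multiply, st_zero, Matrix.mul_assoc, h1]

/-- The opposite radical. -/
def loMat (m ε : ℕ) (K : Matrix (Fin m) (Fin m) F) : Matrix (Idx m ε) (Idx m ε) F :=
  fromBlocks (fromBlocks 1 0 K 1) 0 0 1

theorem loMat_mem {K : Matrix (Fin m) (Fin m) F} (h : K + st σ K = 0) : loMat m ε K ∈ modelSub σ m ε := by
  refine ⟨?_, ?_⟩
  · simp only [loMat, gram, st_fromBlocks, st_zero, st_one, fromBlocks_multiply]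
    simp [fromBlocks_multiply, add_comm (st σ K), h]
  · rw [loMat, det_fromBlocks_zero₁₂, det_fromBlocks_zero₁₂]; simp

variable [Fintype F] {q : ℕ}

/-- The model group is the standard one. -/
theorem exists_model_bij (hF : Fintype.card F = q ^ 2) {n : ℕ} (hn : n = m + m + ε) :
    ∃ Φ : modelSub (frob hF) m ε →* Cfsg.SU n F q, Function.Bijective Φ := by
  classical
  obtain ⟨σ, hσ⟩ : ∃ σ, σ = frob hF := ⟨_, rfl⟩
  rw [← hσ]
  have hσ2 : ∀ a, σ (σ a) = a := hσ ▸ frob_frob hF
  have hσq : ∀ a, σ a = a ^ q := hσ ▸ frob_apply hF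
  -- two isotropic vectors in a plane
  obtain ⟨z, z', hz, hz', hne⟩ : ∃ z z' : F, z ^ (q + 1) = -1 ∧ z' ^ (q + 1) = -1 ∧ z ≠ z' := by
    have h1 : ((-1 : F)) ^ q = -1 := by rw [← hσq, map_neg, map_one]
    have hc := card_norm_eq hF (neg_ne_zero.2 (one_ne_zero (α := F))) h1
    haveI : Nontrivial {x : F // x ^ (q + 1) = -1} := Finite.one_lt_card_iff_nontrivial.1 (by
      rw [hc]; have := two_le_q hF; omega)
    obtain ⟨a, b, hab⟩ := exists_pair_ne {x : F // x ^ (q + 1) = -1}
    exact ⟨a.1, b.1, a.2, b.2, fun h => hab (Subtype.ext h)⟩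
  have hzz : σ z * z = -1 := by rw [hσq, ← pow_succ, hz]
  have hzz' : σ z' * z' = -1 := by rw [hσq, ← pow_succ, hz']
  have hs : 1 + σ z * z' ≠ 0 := fun h => hne (by
    have h2 : σ z * (z - z') = 0 := by linear_combination hzz - h
    rcases mul_eq_zero.1 h2 with h3 | h3
    · rw [h3, zero_mul] at hzz; exact absurd hzz.symm (neg_ne_zero.2 one_ne_zero)
    · exact sub_eq_zero.1 h3)
  obtain ⟨l, hl⟩ : ∃ l, l = (1 + σ z * z')⁻¹ := ⟨_, rfl⟩
  obtain ⟨P, hP⟩ : ∃ P : Matrix (Idx m ε) (Idx m ε) F,
      P = fromBlocks (fromBlocks 1 (l • 1) (z • 1) ((l * z') • 1)) 0 0 1 := ⟨_, rfl⟩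
  have hPP : st σ P * P = gram F m ε := by
    have e1 : (1 : F) + σ z * z = 0 := by rw [hzz]; ring
    have e2 : l + σ z * (l * z') = 1 := by
      rw [hl, show (1 + σ z * z')⁻¹ + σ z * ((1 + σ z * z')⁻¹ * z') = (1 + σ z * z')⁻¹ * (1 + σ z * z') by ring,
        inv_mul_cancel₀ hs]
    have e3 : σ l + σ (l * z') * z = 1 := by
      have := congrArg σ e2
      rw [map_add, map_mul, hσ2, map_one] at this
      linear_combination this
    have e4 : σ l * l + σ (l * z') * (l * z') = 0 := by
      rw [map_mul]; linear_combination (σ l * l) * hzz'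
    rw [hP, gram]
    simp only [st_fromBlocks, st_smul, st_one, st_zero, fromBlocks_multiply, Matrix.zero_mul, Matrix.mul_zero,
      add_zero, zero_add, Matrix.one_mul, Matrix.mul_one, Matrix.smul_mul, Matrix.mul_smul, smul_smul]
    have q1 : (1 : Matrix (Fin m) (Fin m) F) + (z * σ z) • 1 = 0 := by
      nth_rewrite 1 [← one_smul F (1 : Matrix (Fin m) (Fin m) F)]
      rw [← add_smul, mul_comm z, e1, zero_smul]
    have q2 : l • (1 : Matrix (Fin m) (Fin m) F) + (l * z' * σ z) • 1 = 1 := by
      rw [← add_smul, show l + l * z' * σ z = 1 by linear_combination e2, one_smul]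
    have q3 : σ l • (1 : Matrix (Fin m) (Fin m) F) + (z * σ (l * z')) • 1 = 1 := by
      rw [← add_smul, show σ l + z * σ (l * z') = 1 by linear_combination e3, one_smul]
    have q4 : (l * σ l) • (1 : Matrix (Fin m) (Fin m) F) + (l * z' * σ (l * z')) • 1 = 0 := by
      rw [← add_smul, show l * σ l + l * z' * σ (l * z') = 0 by linear_combination e4, zero_smul]
    rw [q1, q2, q3, q4]
  obtain ⟨P', hP'⟩ : ∃ P', P' = gram F m ε * st σ P := ⟨_, rfl⟩
  have hP'P : P' * P = 1 := by rw [hP', mul_assoc, hPP, gram_sq]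
  have hPP' : P * P' = 1 := mul_eq_one_comm.mp hP'P
  obtain ⟨e, -⟩ : ∃ e : Idx m ε ≃ Fin n, True :=
    ⟨((Equiv.sumCongr finSumFinEquiv (Equiv.refl _)).trans finSumFinEquiv).trans (finCongr hn.symm), trivial⟩
  obtain ⟨M, hM⟩ : ∃ M : Matrix (Idx m ε) (Idx m ε) F → Matrix (Fin n) (Fin n) F,
      ∀ A, M A = Matrix.reindexAlgEquiv F F e (P * A * P') := ⟨_, fun A => rfl⟩
  have hM1 : M 1 = 1 := by rw [hM, mul_one, hPP', map_one]
  have hMmul : ∀ A B, M (A * B) = M A * M B := fun A B => by
    rw [hM, hM, hM, ← map_mul, show P * A * P' * (P * B * P') = P * A * (P' * P) * B * P' by simp only [mul_assoc],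
      hP'P, mul_one, mul_assoc P A B]
  have hdet : ∀ A, A ∈ modelSub σ m ε → (M A).det = 1 := fun A hA => by
    rw [hM, Matrix.det_reindexAlgEquiv, det_mul, det_mul, hA.2, mul_one, ← det_mul, hPP', det_one]
  have hst : ∀ A, A ∈ modelSub σ m ε → (M A)ᵀ * (M A).map σ = 1 := fun A hA => by
    have h0 : st σ (P * A * P') * (P * A * P') = 1 := by
      calc st σ (P * A * P') * (P * A * P') = st σ P' * (st σ A * (st σ P * P) * A) * P' := by
            rw [st_mul, st_mul]; simp only [mul_assoc]
        _ = st σ P' * (st σ P * P) * P' := by rw [hPP, hA.1]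
        _ = st σ (P * P') * (P * P') := by rw [st_mul]; simp only [mul_assoc]
        _ = 1 := by rw [hPP', st_one, one_mul]
    have h1 : st σ (M A) * M A = 1 := by
      rw [hM, show st σ (Matrix.reindexAlgEquiv F F e (P * A * P')) = Matrix.reindexAlgEquiv F F e (st σ (P * A * P'))
        from rfl, ← map_mul, h0, map_one]
    have h2 := congrArg (fun B : Matrix (Fin n) (Fin n) F => B.map σ) h1
    simp only [Matrix.map_mul, Matrix.map_one σ (map_zero σ) (map_one σ)] at h2
    rwa [show (st σ (M A)).map σ = (M A)ᵀ by ext i j; simp [st, hσ2]] at h2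
  refine ⟨{
    toFun := fun A => ⟨⟨M A.1, hdet A.1 A.2⟩, fun u v => ?_⟩
    map_one' := Subtype.ext (Subtype.ext hM1)
    map_mul' := fun A B => Subtype.ext (Subtype.ext (hMmul A.1 B.1)) }, fun A B h => ?_, fun S => ?_⟩
  · show Cfsg.hermForm n F q (M A.1 *ᵥ u) (M A.1 *ᵥ v) = Cfsg.hermForm n F q u v
    have hf : ∀ a b : Fin n → F, Cfsg.hermForm n F q a b = a ⬝ᵥ fun i => σ (b i) := fun a b => by
      simp only [Cfsg.hermForm, dotProduct, hσq]
    rw [hf, hf, show (fun i => σ ((M A.1 *ᵥ v) i)) = (M A.1).map σ *ᵥ fun i => σ (v i) from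
      funext fun i => RingHom.map_mulVec σ (M A.1) v i, Matrix.dotProduct_mulVec, Matrix.vecMul_mulVec, hst A.1 A.2,
      Matrix.vecMul_one]
  · have h1 : M A.1 = M B.1 := congrArg (fun x : Cfsg.SU n F q => (x.1 : Matrix (Fin n) (Fin n) F)) h
    rw [hM, hM] at h1
    have h2 := congrArg (fun T => P' * T * P) ((Matrix.reindexAlgEquiv F F e).injective h1)
    have e3 : ∀ T, P' * (P * T * P') * P = T := fun T => by
      rw [show P' * (P * T * P') * P = P' * P * T * (P' * P) by simp only [mul_assoc], hP'P, one_mul, mul_one]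
    simp only [e3] at h2
    exact Subtype.ext h2
  · set S₀ : Matrix (Fin n) (Fin n) F := (S.1 : Matrix (Fin n) (Fin n) F) with hS₀
    have hS : st σ S₀ * S₀ = 1 := by
      ext i j
      have h : Cfsg.hermForm n F q (S₀ *ᵥ Pi.single j 1) (S₀ *ᵥ Pi.single i 1) =
          Cfsg.hermForm n F q (Pi.single j 1) (Pi.single i 1) := S.2 _ _
      simp only [Cfsg.hermForm, Matrix.mulVec_single_one, Matrix.col_apply, ← hσq] at h
      rw [Matrix.mul_apply]
      convert h using 1
      · exact Finset.sum_congr rfl fun k _ => mul_comm _ _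
      · rw [Finset.sum_eq_single i]
        · by_cases hij : i = j <;> simp [Matrix.one_apply, hij, Ne.symm]
        · intro k _ hk; simp [hk]
        · simp
    obtain ⟨T, hT⟩ := (Matrix.reindexAlgEquiv F F e).surjective S₀
    have hT1 : st σ T * T = 1 := (Matrix.reindexAlgEquiv F F e).injective (by
      rw [map_mul, ← show st σ (Matrix.reindexAlgEquiv F F e T) = Matrix.reindexAlgEquiv F F e (st σ T) from rfl, hT,
        hS, map_one])
    have hA : P' * T * P ∈ modelSub σ m ε := by
      refine ⟨?_, ?_⟩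
      · have h1 : st σ P' * gram F m ε * P' = 1 := by
          rw [← hPP, show st σ P' * (st σ P * P) * P' = st σ P' * st σ P * (P * P') by simp only [mul_assoc],
            ← st_mul, hPP', st_one, one_mul]
        calc st σ (P' * T * P) * gram F m ε * (P' * T * P)
            = st σ P * (st σ T * (st σ P' * gram F m ε * P') * T) * P := by
              rw [st_mul, st_mul]; simp only [mul_assoc]
          _ = gram F m ε := by rw [h1, mul_one, hT1, mul_one, hPP]
      · have h2 : T.det = 1 := by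
          rw [← Matrix.det_reindexAlgEquiv F F e T, hT]; exact S.1.2
        rw [det_mul, det_mul, h2, mul_one, ← det_mul, hP'P, det_one]
    refine ⟨⟨_, hA⟩, Subtype.ext (Subtype.ext ?_)⟩
    show M (P' * T * P) = S₀
    rw [hM, show P * (P' * T * P) * P' = P * P' * T * (P * P') by simp only [mul_assoc], hPP', one_mul, mul_one, hT]

/-- The model group inside the standard one. -/
theorem exists_model (hF : Fintype.card F = q ^ 2) {n : ℕ} (hn : n = m + m + ε) :
    ∃ Φ : modelSub (frob hF) m ε →* Cfsg.SU n F q, Function.Injective Φ := by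
  obtain ⟨Φ, h⟩ := exists_model_bij (m := m) (ε := ε) hF hn
  exact ⟨Φ, h.1⟩

end Cfsg.Lib.Linear.SUDegree
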