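import Mathlib

/-!
# Joint eigenvectors and a dimension bound from two layers of eigenvalue systems
-/

set_option autoImplicit false

namespace Cfsg.Lib.Linear.SUDegree

open Module

variable {E : Type*} [AddCommGroup E] [Module ℂ E] [FiniteDimensional ℂ E]

theorem exists_eigen_on {ι : Type*} (f : ι → Module.End ℂ E) (hc : ∀ a b, f a * f b = f b * f a)
    (W : Submodule ℂ E) (hW : W ≠ ⊥) (hinv : ∀ a, ∀ v ∈ W, f a v ∈ W) (s : Finset ι) :
    ∃ W' ≤ W, W' ≠ ⊥ ∧ (∀ a, ∀ v ∈ W', f a v ∈ W') ∧ ∀ a ∈ s, ∃ c : ℂ, ∀ v ∈ W', f a v = c • v := by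
  classical
  induction s using Finset.induction_on with
  | empty => exact ⟨W, le_rfl, hW, hinv, by simp⟩
  | insert a s _ ih =>
    obtain ⟨W', hle, hne, hinv', hs⟩ := ih
    haveI : Nontrivial W' := Submodule.nontrivial_iff_ne_bot.2 hne
    obtain ⟨μ, hμ⟩ := Module.End.exists_eigenvalue ((f a).restrict (hinv' a))
    obtain ⟨v, hv⟩ := hμ.exists_hasEigenvector
    refine ⟨W' ⊓ Module.End.eigenspace (f a) μ, inf_le_left.trans hle, ?_, ?_, ?_⟩
    · refine (Submodule.ne_bot_iff _).2 ⟨v, ⟨v.2, ?_⟩, fun h => hv.2 (Subtype.ext h)⟩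
      rw [SetLike.mem_coe, Module.End.mem_eigenspace_iff]
      exact congrArg Subtype.val hv.apply_eq_smul
    · intro b w hw
      refine ⟨hinv' b w hw.1, ?_⟩
      rw [SetLike.mem_coe, Module.End.mem_eigenspace_iff, ← Module.End.mul_apply, hc, Module.End.mul_apply,
        Module.End.mem_eigenspace_iff.1 hw.2, map_smul]
    · intro b hb
      rcases Finset.mem_insert.1 hb with rfl | hb
      · exact ⟨μ, fun w hw => Module.End.mem_eigenspace_iff.1 hw.2⟩
      · obtain ⟨c, hc'⟩ := hs b hb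
        exact ⟨c, fun w hw => hc' w hw.1⟩

/-- Commuting operators have a joint eigenvector. -/
theorem exists_common_eigen {ι : Type*} [Finite ι] (f : ι → Module.End ℂ E) (hc : ∀ a b, f a * f b = f b * f a)
    (W : Submodule ℂ E) (hW : W ≠ ⊥) (hinv : ∀ a, ∀ v ∈ W, f a v ∈ W) :
    ∃ v ∈ W, v ≠ 0 ∧ ∃ c : ι → ℂ, ∀ a, f a v = c a • v := by
  haveI := Fintype.ofFinite ι
  obtain ⟨W', hle, hne, -, hs⟩ := exists_eigen_on f hc W hW hinv Finset.univ
  obtain ⟨v, hv, hv0⟩ := Submodule.exists_mem_ne_zero_of_ne_bot hne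
  choose c hc' using fun a => hs a (Finset.mem_univ a)
  exact ⟨v, hle hv, hv0, c, fun a => hc' a v hv⟩

/-- Vectors separated by two layers of eigenvalue systems. -/
theorem card_mul_card_le {A W κ T : Type*} [Fintype A] [Fintype κ] [Fintype T] [DecidableEq W] [DecidableEq κ]
    (R : A → Module.End ℂ E) (χ ξ : W → A → ℂ) (S : Finset W) {cA : ℂ} (hA : cA ≠ 0)
    (horth : ∀ u ∈ S, ∀ w ∈ S, ∑ a, ξ u a * χ w a = if w = u then cA else 0)
    (X : W → T → Module.End ℂ E) (ev η : W → κ → T → ℂ) {cT : ℂ} (hT : cT ≠ 0)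
    (horth' : ∀ w ∈ S, ∀ b b', ∑ t, η w b t * ev w b' t = if b' = b then cT else 0)
    (y : W → κ → E) (hy : ∀ w ∈ S, ∀ b, y w b ≠ 0) (hR : ∀ w ∈ S, ∀ b a, R a (y w b) = χ w a • y w b)
    (hX : ∀ w ∈ S, ∀ b t, X w t (y w b) = ev w b t • y w b) :
    S.card * Fintype.card κ ≤ finrank ℂ E := by
  have hind : LinearIndependent ℂ fun p : ↥S × κ => y p.1.1 p.2 := by
    rw [Fintype.linearIndependent_iff]
    rintro c hc ⟨⟨u, hu⟩, b⟩
    have h1 := congrArg (∑ a, ξ u a • R a : Module.End ℂ E) hc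
    have e1 : ∀ p : ↥S × κ, (∑ a, ξ u a • R a : Module.End ℂ E) (y p.1.1 p.2) =
        if p.1.1 = u then cA • y p.1.1 p.2 else 0 := fun p => by
      rw [LinearMap.sum_apply]
      simp only [LinearMap.smul_apply, hR _ p.1.2, smul_smul, ← Finset.sum_smul, horth u hu _ p.1.2]
      split_ifs <;> simp
    simp only [map_sum, map_smul, map_zero, e1] at h1
    have h2 := congrArg (∑ t, η u b t • X u t : Module.End ℂ E) h1
    have e2 : ∀ b', (∑ t, η u b t • X u t : Module.End ℂ E) (y u b') = if b' = b then cT • y u b' else 0 :=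
      fun b' => by
      rw [LinearMap.sum_apply]
      simp only [LinearMap.smul_apply, hX u hu, smul_smul, ← Finset.sum_smul, horth' u hu]
      split_ifs <;> simp
    simp only [map_sum, map_smul, map_zero] at h2
    rw [Finset.sum_eq_single (⟨u, hu⟩, b)] at h2
    · rw [if_pos rfl, map_smul, e2, if_pos rfl, smul_smul, smul_smul, smul_eq_zero] at h2
      exact (by
        have := h2.resolve_right (hy u hu b)
        simpa [hA, hT] using this)
    · rintro ⟨⟨w, hw⟩, b'⟩ _ hne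
      by_cases hwu : w = u
      · subst hwu
        have hb : b' ≠ b := fun e => hne (by subst e; rfl)
        rw [if_pos rfl, map_smul, e2, if_neg hb, smul_zero, smul_zero]
      · rw [if_neg hwu, map_zero, smul_zero]
    · exact fun h => absurd (Finset.mem_univ _) h
  have := hind.fintype_card_le_finrank
  rwa [Fintype.card_prod, Fintype.card_coe] at this

/-- An irreducible representation of dimension at least two is non-trivial. -/
theorem exists_apply_ne_one {G : Type*} [Monoid G] {k : ℕ} (ρ : Representation ℂ G (Fin k → ℂ))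
    [ρ.IsIrreducible] (hk : 2 ≤ k) : ∃ g, ρ g ≠ 1 := by
  by_contra hno
  push Not at hno
  obtain ⟨U, hU⟩ : ∃ U : Submodule ℂ (Fin k → ℂ), U = Submodule.span ℂ {Pi.single ⟨0, by omega⟩ 1} := ⟨_, rfl⟩
  obtain ⟨W, hW⟩ : ∃ W : Subrepresentation ρ, W.toSubmodule = U :=
    ⟨⟨U, fun g v hv => by rw [hno g]; exact hv⟩, rfl⟩
  rcases IsSimpleOrder.eq_bot_or_eq_top W with h | h
  · have h0 : U = ⊥ := by rw [← hW, h]; rfl
    have : (Pi.single (⟨0, by omega⟩ : Fin k) (1 : ℂ) : Fin k → ℂ) ∈ U :=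
      hU ▸ Submodule.subset_span rfl
    rw [h0, Submodule.mem_bot, Pi.single_eq_zero_iff] at this
    exact one_ne_zero this
  · have h0 : U = ⊤ := by rw [← hW, h]; rfl
    have h1 := finrank_span_singleton (K := ℂ)
      (show (Pi.single (⟨0, by omega⟩ : Fin k) (1 : ℂ) : Fin k → ℂ) ≠ 0 by simp)
    rw [← hU, h0, finrank_top, Module.finrank_fin_fun] at h1
    omega

end Cfsg.Lib.Linear.SUDegree
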