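import Cfsg.Agent.Lib.Linear.PSUSimple
import Cfsg.Agent.Lib.Linear.UnitaryThreeSimple
import Cfsg.Agent.Lib.Linear.HermParabolic

/-!
# Normal subgroups of special unitary groups
-/

set_option autoImplicit false

namespace Cfsg.Lib.Linear.SUDegree

open Module Cfsg.Lib.Linear Cfsg.Lib.Linear.Herm
open scoped commutatorElement

variable {F : Type*} [Field F] [Fintype F] {q n : ℕ}

theorem exists_two_traces (hF : Fintype.card F = q ^ 2) (hq : 3 ≤ q) :
    ∃ y z : F, y ≠ 0 ∧ z ≠ 0 ∧ y ≠ z ∧ y + frob hF y = 0 ∧ z + frob hF z = 0 := by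
  obtain ⟨y, hy0, hy⟩ := exists_trace_zero (frob_ne_id hF) (frob_frob hF)
  obtain ⟨a, ha, ha0, ha1⟩ : ∃ a : F, a ^ q = a ∧ a ≠ 0 ∧ a ≠ 1 := by
    by_contra hno
    push Not at hno
    have : Nat.card {a : F // a ^ q = a} ≤ 2 := by
      classical
      rw [Nat.card_eq_fintype_card, Fintype.card_subtype]
      refine (Finset.card_le_card (t := {0, 1}) fun a ha => ?_).trans Finset.card_le_two
      simp only [Finset.mem_filter, Finset.mem_univ, true_and] at ha
      by_cases h0 : a = 0
      · simp [h0]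
      · simp [hno a ha h0]
    rw [card_fixed hF] at this
    omega
  refine ⟨y, a * y, hy0, mul_ne_zero ha0 hy0, ?_, hy, ?_⟩
  · intro e
    exact ha1 (mul_right_cancel₀ hy0 (by rw [one_mul]; exact e.symm))
  · rw [map_mul, frob_apply hF a, ha, ← mul_add, hy, mul_zero]

/-- Normal subgroups are central or everything. -/
theorem su_normal (hF : Fintype.card F = q ^ 2) (hn : 4 ≤ n ∨ (n = 3 ∧ 3 ≤ q)) (N : Subgroup (Cfsg.SU n F q))
    [N.Normal] : N ≤ Subgroup.center (Cfsg.SU n F q) ∨ N = ⊤ := by
  obtain ⟨ψ, hψ⟩ : ∃ ψ, ψ = suToLin n F q := ⟨_, rfl⟩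
  have hψi : Function.Injective ψ := hψ ▸ suToLin_injective n
  have hran : ψ.range = tvGroup (hB hF n) := by
    rw [hψ]
    refine suToLin_range hF ?_
    rcases hn with h | ⟨rfl, hq⟩
    · exact Or.inl h
    · exact Or.inr ⟨le_rfl, exists_two_traces hF hq⟩
  have hle : N.map ψ ≤ tvGroup (hB hF n) := hran ▸ Subgroup.map_le_range ψ N
  have hnorm : ∀ t ∈ tvGroup (hB hF n), ∀ g ∈ N.map ψ, t * g * t⁻¹ ∈ N.map ψ := by
    intro t ht g hg
    rw [← hran] at ht
    obtain ⟨T, rfl⟩ := ht
    obtain ⟨g, hg, rfl⟩ := hg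
    exact ⟨T * g * T⁻¹, (inferInstance : N.Normal).conj_mem g hg T, by rw [map_mul, map_mul, map_inv]⟩
  have key : (∀ g ∈ N.map ψ, ∃ c : F, ∀ x, g x = c • x) ∨ tvGroup (hB hF n) ≤ N.map ψ := by
    rcases hn with h | ⟨rfl, hq⟩
    · have C := bigSpace hF h
      exact (Big.scalars_or_commutator_le C hle hnorm).imp id ((Big.tv_le_commutator C).trans)
    · have C : Three.Space (hB hF 3) := ⟨frob_ne_id hF, frob_frob hF, hB_isSymm hF 3, hB_nondegenerate hF 3,
        finrank_fin_fun F, exists_two_traces hF hq⟩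
      refine (Three.scalars_or_commutator_le C hle hnorm).imp id ((Three.tv_le_commutator C ?_).trans)
      classical
      by_contra hno
      push Not at hno
      have h1 : (Finset.univ.filter fun a : F => a ≠ 0) ⊆ Finset.univ.filter fun a : F => a ^ (q + 1) = 1 :=
        fun a ha => by
          simp only [Finset.mem_filter, Finset.mem_univ, true_and] at ha ⊢
          rw [pow_succ', ← frob_apply hF]; exact hno a ha
      have h2 := Finset.card_le_card h1
      rw [Finset.filter_ne', Finset.card_erase_of_mem (Finset.mem_univ _), Finset.card_univ, hF] at h2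
      have h3 : (Finset.univ.filter fun a : F => a ^ (q + 1) = 1).card ≤ q + 1 := by
        refine (Finset.card_le_card (t := (Polynomial.nthRoots (q + 1) (1 : F)).toFinset) fun a ha => ?_).trans
          ((Multiset.toFinset_card_le _).trans (Polynomial.card_nthRoots _ _))
        simp only [Finset.mem_filter, Finset.mem_univ, true_and] at ha
        rw [Multiset.mem_toFinset, Polynomial.mem_nthRoots (by omega)]
        exact ha
      have h4 : q * 3 ≤ q ^ 2 := by rw [sq]; exact Nat.mul_le_mul_left _ hq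
      omega
  rcases key with h | h
  · left
    intro g hg
    obtain ⟨c, hc⟩ := h _ (Subgroup.mem_map_of_mem ψ hg)
    refine Subgroup.mem_center_iff.2 fun k => hψi ?_
    rw [map_mul, map_mul]
    refine LinearEquiv.ext fun x => ?_
    rw [LinearEquiv.mul_apply, LinearEquiv.mul_apply, hc, hc, map_smul]
  · right
    refine eq_top_iff.2 ?_
    rw [← Subgroup.map_le_map_iff_of_injective hψi, ← MonoidHom.range_eq_map, hran]
    exact h

end Cfsg.Lib.Linear.SUDegree
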