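import Cfsg.Agent.Lib.Linear.CharSupport
import Cfsg.Agent.Lib.Linear.HermParabolic
import Cfsg.Agent.Lib.Linear.SUDegree.Eigen
import Cfsg.Agent.Lib.Linear.SUDegree.Normal
import Cfsg.Agent.Lib.Linear.SUDegree.Model

/-!
# The least degree of a complex representation of a special unitary group

The centre of the unipotent radical of the Siegel parabolic subgroup is the space of anti-Hermitian matrices.
-/

set_option autoImplicit false
set_option linter.unusedSectionVars false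

namespace Cfsg.Lib.Linear.SUDegree

open Matrix Cfsg.Lib.Linear.Herm

variable {F : Type*} [Field F] [Fintype F] [DecidableEq F] {q : ℕ}

/-- The anti-Hermitian matrices. -/
def skew (σ : F →+* F) (m : ℕ) : AddSubgroup (Matrix (Fin m) (Fin m) F) where
  carrier := {H | H + st σ H = 0}
  zero_mem' := by simp [st_zero]
  add_mem' := fun {a b} ha hb => by
    simp only [Set.mem_setOf_eq] at ha hb ⊢
    rw [st_add, show a + b + (st σ a + st σ b) = a + st σ a + (b + st σ b) by abel, ha, hb, add_zero]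
  neg_mem' := fun {a} ha => by
    simp only [Set.mem_setOf_eq] at ha ⊢
    rw [st_neg, ← neg_add, ha, neg_zero]

/-- A matrix with one non-zero row. -/
def rowMat {m ε : ℕ} (i : Fin m) (t : Fin ε → F) : Matrix (Fin m) (Fin ε) F :=
  Matrix.of fun r e => if r = i then t e else 0

theorem rowMat_mul {σ : F →+* F} {m ε : ℕ} (i j : Fin m) (s t : Fin ε → F) :
    rowMat i s * st σ (rowMat j t) = Matrix.single i j (∑ e, s e * σ (t e)) := by
  ext a b
  by_cases h1 : a = i <;> by_cases h2 : b = j <;>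
    simp [rowMat, st, Matrix.mul_apply, Matrix.single_apply, h1, h2, Ne.symm]

section Abstract

variable {σ : F →+* F} {k ε d : ℕ} (hσ2 : ∀ a, σ (σ a) = a)

theorem skew_st {m : ℕ} (N : ↥(skew σ m)) : st σ N.1 = -N.1 :=
  eq_neg_of_add_eq_zero_right (N.2 : N.1 + st σ N.1 = 0)

include hσ2 in
theorem single_skew {m : ℕ} (c : F) (i j : Fin m) :
    Matrix.single j i c - Matrix.single i j (σ c) ∈ skew σ m := by
  show Matrix.single j i c - Matrix.single i j (σ c) + st σ _ = 0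
  rw [st_sub, st_single, st_single, hσ2]; abel

include hσ2 in
theorem uMat_mem_zero {m : ℕ} (a : ↥(skew σ m)) : uMat (ε := ε) σ a.1 0 ∈ modelSub σ m ε :=
  uMat_mem hσ2 (by rw [st_zero, Matrix.mul_zero, add_zero]; exact a.2)

/-- A non-trivial anti-Hermitian matrix pairs to one with a single pair of entries. -/
theorem exists_pair {m : ℕ} {s₀ : F} (hs₀ : s₀ + σ s₀ = 1) {N : ↥(skew σ m)} (hN : N ≠ 0) :
    ∃ (i j : Fin m) (c : F), trace (N.1 * (Matrix.single j i c - Matrix.single i j (σ c))) = 1 := by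
  obtain ⟨i, j, hij⟩ : ∃ i j, N.1 i j ≠ 0 := by
    by_contra hno
    push Not at hno
    exact hN (Subtype.ext (Matrix.ext fun i j => hno i j))
  refine ⟨i, j, s₀ / N.1 i j, ?_⟩
  rw [Matrix.mul_sub, Matrix.trace_sub, Matrix.trace_mul_single, Matrix.trace_mul_single]
  have h : σ (N.1 i j) = -N.1 j i := congrFun (congrFun (skew_st N) j) i
  have e1 : σ (s₀ / N.1 i j) * N.1 j i = -σ s₀ := by
    rw [show N.1 j i = -σ (N.1 i j) by rw [h, neg_neg], mul_neg, ← map_mul, div_mul_cancel₀ _ hij]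
  simp only [op_smul_eq_mul]
  linear_combination div_mul_cancel₀ s₀ hij - e1 + hs₀

/-- An element of the radical with one non-zero row. -/
theorem rowLift_mem (hσ2 : ∀ a, σ (σ a) = a) {a₀ : F} (ha₀ : a₀ + σ a₀ = -1) (r : Fin (k + 1)) (s : Fin ε → F) :
    uMat σ (a₀ • (rowMat r s * st σ (rowMat r s))) (rowMat r s) ∈ modelSub σ (k + 1) ε :=
  uMat_mem hσ2 (by rw [st_smul, st_mul, st_st hσ2, ← add_smul, ha₀, neg_one_smul, neg_add_cancel])

/-- A model element acts injectively. -/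
theorem op_injective (π : modelSub σ (k + 1) ε →* Module.End ℂ (Fin d → ℂ)) {a b : modelSub σ (k + 1) ε}
    (hab : a * b = 1) (x : Fin d → ℂ) (h : π b x = 0) : x = 0 := by
  have h2 := congrArg (π a) h
  rw [map_zero, ← Module.End.mul_apply, ← map_mul, hab, map_one, Module.End.one_apply] at h2
  exact h2

/-- Every character that occurs comes with `q ^ ε` independent vectors. -/
theorem two_layers {a₀ : F} (ha₀ : a₀ + σ a₀ = -1)
    (π : modelSub σ (k + 1) ε →* Module.End ℂ (Fin d → ℂ))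
    (hπinv : ∀ b : modelSub σ (k + 1) ε, ∃ a, a * b = 1)
    (ψ : AddChar F ℂ) (γ : F) (w : ↥(skew σ (k + 1))) {i j : Fin (k + 1)} {c₁ : F}
    (hc₁ : trace (w.1 * (Matrix.single j i c₁ - Matrix.single i j (σ c₁))) = 1)
    {v : Fin d → ℂ} (hv : v ≠ 0)
    (hvR : ∀ a : ↥(skew σ (k + 1)), π ⟨_, uMat_mem_zero hσ2 a⟩ v = ψ (γ * trace (w.1 * a.1)) • v) :
    ∃ (X : (Fin ε → RingHom.eqLocusField σ (RingHom.id F)) → Module.End ℂ (Fin d → ℂ))
      (c : (Fin ε → RingHom.eqLocusField σ (RingHom.id F)) → ℂ)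
      (y : (Fin ε → RingHom.eqLocusField σ (RingHom.id F)) → (Fin d → ℂ)), (∀ t, c t ≠ 0) ∧ (∀ b, y b ≠ 0) ∧
        (∀ b (a : ↥(skew σ (k + 1))), π ⟨_, uMat_mem_zero hσ2 a⟩ (y b) = ψ (γ * trace (w.1 * a.1)) • y b) ∧
        ∀ b t, X t (y b) = (ψ (γ * ∑ e, (t e : F) * (b e : F)) * c t) • y b := by
  classical
  have hfix : ∀ x : RingHom.eqLocusField σ (RingHom.id F), σ (x : F) = x := fun x => x.2
  obtain ⟨L, hL⟩ : ∃ L : Fin (k + 1) → (Fin ε → F) → Module.End ℂ (Fin d → ℂ),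
      ∀ r s, L r s = π ⟨_, rowLift_mem hσ2 ha₀ r s⟩ := ⟨_, fun r s => rfl⟩
  have hLR : ∀ r s (a : ↥(skew σ (k + 1))),
      π ⟨_, uMat_mem_zero hσ2 a⟩ * L r s = L r s * π ⟨_, uMat_mem_zero hσ2 a⟩ := fun r s a => by
    rw [hL, ← map_mul, ← map_mul]
    congr 1
    refine Subtype.ext ?_
    rw [Submonoid.coe_mul, Submonoid.coe_mul, uMat_mul, uMat_mul, st_zero, Matrix.mul_zero, Matrix.zero_mul,
      sub_zero, sub_zero, add_comm a.1, add_comm (0 : Matrix (Fin (k + 1)) (Fin ε) F)]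
  have hLinj : ∀ r s (x : Fin d → ℂ), L r s x = 0 → x = 0 := fun r s x h => by
    obtain ⟨a, ha⟩ := hπinv ⟨_, rowLift_mem hσ2 ha₀ r s⟩
    exact op_injective π ha x (by rw [← hL]; exact h)
  have hsum : ∀ t t' : Fin ε → RingHom.eqLocusField σ (RingHom.id F),
      (∑ e, (t e : F) * σ (t' e : F)) = ∑ e, (t e : F) * (t' e : F) := fun t t' => by simp only [hfix]
  obtain ⟨W, hW⟩ : ∃ W : Submodule ℂ (Fin d → ℂ), ∀ x, x ∈ W ↔
      ∀ a : ↥(skew σ (k + 1)), π ⟨_, uMat_mem_zero hσ2 a⟩ x = ψ (γ * trace (w.1 * a.1)) • x :=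
    ⟨⨅ a : ↥(skew σ (k + 1)), Module.End.eigenspace (π ⟨_, uMat_mem_zero hσ2 a⟩) (ψ (γ * trace (w.1 * a.1))),
      fun x => by simp [Submodule.mem_iInf, Module.End.mem_eigenspace_iff]⟩
  have hinv : ∀ r s, ∀ x ∈ W, L r s x ∈ W := fun r s x hx => (hW _).2 fun a => by
    rw [← Module.End.mul_apply, hLR, Module.End.mul_apply, (hW x).1 hx a, map_smul]
  obtain ⟨X, hX⟩ : ∃ X : (Fin ε → RingHom.eqLocusField σ (RingHom.id F)) → Module.End ℂ (Fin d → ℂ),
      ∀ t, X t = L i fun e => (t e : F) := ⟨_, fun t => rfl⟩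
  have hXc : ∀ t t', X t * X t' = X t' * X t := fun t t' => by
    rw [hX, hX, hL, hL, ← map_mul, ← map_mul]
    congr 1
    refine Subtype.ext ?_
    rw [Submonoid.coe_mul, Submonoid.coe_mul, uMat_mul, uMat_mul]
    simp only [rowMat_mul, hsum]
    rw [show (∑ e, (t' e : F) * (t e : F)) = ∑ e, (t e : F) * (t' e : F) from
        Finset.sum_congr rfl fun e _ => mul_comm _ _, add_comm (rowMat i fun e => (t e : F)),
      add_comm (a₀ • Matrix.single i i (∑ e, (t e : F) * (t e : F)))]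
  haveI : Finite (Fin ε → RingHom.eqLocusField σ (RingHom.id F)) := inferInstance
  obtain ⟨v₀, hv₀W, hv₀, c, hc⟩ := exists_common_eigen X hXc W
    ((Submodule.ne_bot_iff _).2 ⟨v, (hW v).2 hvR, hv⟩) (fun t x hx => by rw [hX]; exact hinv _ _ x hx)
  obtain ⟨Y, hY⟩ : ∃ Y : (Fin ε → RingHom.eqLocusField σ (RingHom.id F)) → Module.End ℂ (Fin d → ℂ),
      ∀ b, Y b = L j fun e => c₁ * (b e : F) := ⟨_, fun b => rfl⟩
  have hYW : ∀ b, Y b v₀ ∈ W := fun b => by rw [hY]; exact hinv _ _ _ hv₀W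
  refine ⟨X, c, fun b => Y b v₀, fun t h0 => hv₀ ?_, fun b h => hv₀ ?_, fun b => (hW _).1 (hYW b), fun b t => ?_⟩
  · have h1 := hc t
    rw [h0, zero_smul, hX] at h1
    exact hLinj _ _ _ h1
  · simp only [hY] at h; exact hLinj _ _ _ h
  · obtain ⟨s, hs⟩ : ∃ s, s = ∑ e, (t e : F) * (b e : F) := ⟨_, rfl⟩
    obtain ⟨H, hH⟩ : ∃ H : ↥(skew σ (k + 1)), H.1 = Matrix.single j i (c₁ * s) - Matrix.single i j (σ (c₁ * s)) :=
      ⟨⟨_, single_skew hσ2 _ i j⟩, rfl⟩
    have hcomm : X t * Y b = π ⟨_, uMat_mem_zero hσ2 H⟩ * (Y b * X t) := by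
      rw [hX, hY, hL, hL, ← map_mul, ← map_mul, ← map_mul]
      congr 1
      refine Subtype.ext ?_
      rw [Submonoid.coe_mul, Submonoid.coe_mul, Submonoid.coe_mul, uMat_mul, uMat_mul, uMat_mul, rowMat_mul i j,
        rowMat_mul j i _ fun e => (t e : F), hH, Matrix.zero_mul, sub_zero, zero_add,
        add_comm (rowMat i fun e => (t e : F))]
      congr 1
      rw [show ∑ e, (t e : F) * σ (c₁ * (b e : F)) = σ (c₁ * s) by
          rw [hs, Finset.mul_sum, map_sum]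
          exact Finset.sum_congr rfl fun e _ => by simp only [map_mul, hfix]; ring,
        show ∑ e, c₁ * (b e : F) * σ (t e : F) = c₁ * s by
          rw [hs, Finset.mul_sum]
          exact Finset.sum_congr rfl fun e _ => by rw [hfix]; ring]
      abel
    show X t (Y b v₀) = _
    rw [← Module.End.mul_apply, hcomm, Module.End.mul_apply, Module.End.mul_apply, hc, map_smul, map_smul,
      (hW _).1 (hYW b) H, smul_smul, ← hs, mul_comm (c t)]
    congr 3
    have e1 : H.1 = s • (Matrix.single j i c₁ - Matrix.single i j (σ c₁)) := by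
      rw [hH, smul_sub, Matrix.smul_single, Matrix.smul_single, smul_eq_mul, smul_eq_mul, map_mul,
        show σ s = s by rw [hs, map_sum]; simp only [map_mul, hfix], mul_comm s, mul_comm s]
    rw [e1, Matrix.mul_smul, Matrix.trace_smul, hc₁, smul_eq_mul, mul_one]

/-- The Levi subgroup moves the occurring characters. -/
theorem occurring_conj (π : modelSub σ (k + 1) ε →* Module.End ℂ (Fin d → ℂ))
    (hπinv : ∀ b : modelSub σ (k + 1) ε, ∃ a, a * b = 1)
    (ψ : AddChar F ℂ) (γ : F) {N : ↥(skew σ (k + 1))} (hN : N ≠ 0) {v : Fin d → ℂ} (hv : v ≠ 0)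
    (hvR : ∀ a : ↥(skew σ (k + 1)), π ⟨_, uMat_mem_zero hσ2 a⟩ v = ψ (γ * trace (N.1 * a.1)) • v)
    {B C : Matrix (Fin (k + 1)) (Fin (k + 1)) F} (hCB : C * B = 1) {μ : F} (hμ1 : σ μ * μ = 1)
    (hμ2 : C.det * σ B.det * μ ^ ε = 1) :
    ∃ N' : ↥(skew σ (k + 1)), N'.1 = st σ B * N.1 * B ∧ N' ≠ 0 ∧ ∃ v' : Fin d → ℂ, v' ≠ 0 ∧
      ∀ a : ↥(skew σ (k + 1)), π ⟨_, uMat_mem_zero hσ2 a⟩ v' = ψ (γ * trace (N'.1 * a.1)) • v' := by
  classical
  have hBC : B * C = 1 := mul_eq_one_comm.mp hCB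
  have hl := lMat_mem (ε := ε) hσ2 hCB hμ1 hμ2
  have hN' : st σ B * N.1 * B ∈ skew σ (k + 1) := by
    show st σ B * N.1 * B + st σ _ = 0
    rw [st_mul, st_mul, st_st hσ2, ← mul_assoc, skew_st, mul_neg, neg_mul, add_neg_cancel]
  refine ⟨⟨_, hN'⟩, rfl, fun h => hN (Subtype.ext ?_), π ⟨_, hl⟩ v, fun h => hv ?_, fun a => ?_⟩
  · have h1 : st σ B * N.1 * B = 0 := congrArg Subtype.val h
    have h2 := congrArg (fun A => st σ C * A * C) h1
    simp only [← mul_assoc, mul_zero, zero_mul, ← st_mul, hBC, st_one, one_mul] at h2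
    rw [mul_assoc, hBC, mul_one] at h2
    exact h2
  · obtain ⟨a, ha⟩ := hπinv ⟨_, hl⟩
    exact op_injective π ha v h
  · have ha : B * a.1 * st σ B ∈ skew σ (k + 1) := by
      show B * a.1 * st σ B + st σ _ = 0
      rw [st_mul, st_mul, st_st hσ2, ← mul_assoc, skew_st, mul_neg, neg_mul, add_neg_cancel]
    have e1 : C * (B * a.1 * st σ B) * st σ C = a.1 := by
      rw [show C * (B * a.1 * st σ B) * st σ C = C * B * a.1 * (st σ B * st σ C) by simp only [mul_assoc],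
        ← st_mul, hCB, st_one, one_mul, mul_one]
    have e2 : (⟨_, uMat_mem_zero hσ2 a⟩ : modelSub σ (k + 1) ε) * ⟨_, hl⟩ =
        ⟨_, hl⟩ * ⟨_, uMat_mem_zero hσ2 ⟨_, ha⟩⟩ := Subtype.ext (by
      rw [Submonoid.coe_mul, Submonoid.coe_mul, lMat_mul_uMat hCB, e1])
    rw [← Module.End.mul_apply, ← map_mul, e2, map_mul, Module.End.mul_apply, hvR, map_smul]
    congr 3
    show trace (N.1 * (B * a.1 * st σ B)) = trace (st σ B * N.1 * B * a.1)
    rw [← mul_assoc, ← mul_assoc, Matrix.trace_mul_comm, ← mul_assoc, ← mul_assoc]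

end Abstract

set_option maxHeartbeats 1000000 in
/-- The bound on the degree. -/
theorem degree_ge (hF : Fintype.card F = q ^ 2) {n k ε : ℕ} (hn : n = k + 1 + (k + 1) + ε)
    (hnormal : 4 ≤ n ∨ (n = 3 ∧ 3 ≤ q)) (hlev : ε = 1 ∨ (ε = 0 ∧ 1 ≤ k)) {d : ℕ}
    (ρ : Cfsg.SU n F q →* Module.End ℂ (Fin d → ℂ)) (hρ : ∃ g, ρ g ≠ 1) :
    q ^ ε * (q ^ (2 * (k + 1)) - 1) ≤ (q + 1) * d := by
  classical
  obtain ⟨Φ, hΦ⟩ := exists_model (m := k + 1) (ε := ε) hF hn
  obtain ⟨σ, hσ⟩ : ∃ σ, σ = frob hF := ⟨_, rfl⟩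
  revert Φ
  rw [← hσ]
  intro Φ hΦ
  have hσ2 : ∀ a, σ (σ a) = a := hσ ▸ frob_frob hF
  have hσq : ∀ a, σ a = a ^ q := hσ ▸ frob_apply hF
  have hne : σ ≠ RingHom.id F := hσ ▸ frob_ne_id hF
  obtain ⟨y₀, hy₀, hy₀s⟩ := exists_trace_zero hne hσ2
  obtain ⟨s₀, hs₀⟩ := exists_trace_eq hne hσ2 (map_one σ)
  obtain ⟨a₀, ha₀⟩ : ∃ a₀, a₀ + σ a₀ = -1 := ⟨-s₀, by rw [map_neg, ← neg_add, hs₀]⟩
  -- the fixed field
  have hK₀c : Fintype.card (RingHom.eqLocusField σ (RingHom.id F)) = q := by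
    rw [← Nat.card_eq_fintype_card]
    refine Eq.trans (Nat.card_congr (Equiv.subtypeEquivRight fun a => ?_)) (card_fixed hF)
    show σ a = a ↔ a ^ q = a
    rw [hσq]
  -- the operators
  obtain ⟨ψ, γ, hγ⟩ : ∃ (ψ : AddChar F ℂ) (γ : F), ψ γ ≠ 1 := by
    have := AddChar.FiniteField.primitiveChar_to_Complex_isPrimitive F (one_ne_zero (α := F))
    rw [AddChar.ne_one_iff] at this
    obtain ⟨x, hx⟩ := this
    exact ⟨_, x, by simpa using hx⟩
  obtain ⟨χ, hχdef⟩ : ∃ χ : ↥(skew σ (k + 1)) → ↥(skew σ (k + 1)) → ℂ,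
      ∀ N H, χ N H = ψ (γ * trace (N.1 * H.1)) := ⟨_, fun N H => rfl⟩
  have hχ : ∀ N a b, χ N (a + b) = χ N a * χ N b := fun N a b => by
    rw [hχdef, hχdef, hχdef, AddSubgroup.coe_add, mul_add, Matrix.trace_add, mul_add, AddChar.map_add_eq_mul]
  have hχ0 : ∀ N, χ N 0 = 1 := fun N => by simp [hχdef]
  have hsymm : ∀ N H, χ N H = χ H N := fun N H => by rw [hχdef, hχdef, Matrix.trace_mul_comm]
  have hskew := fun N : ↥(skew σ (k + 1)) => skew_st N
  have hsingle := fun (c : F) (i j : Fin (k + 1)) => single_skew hσ2 c i j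
  have hpair := fun (N : ↥(skew σ (k + 1))) (hN : N ≠ 0) => exists_pair hs₀ hN
  have hπinv : ∀ b : modelSub σ (k + 1) ε, ∃ a, a * b = 1 := fun b => by
    refine ⟨b ^ (orderOf (Φ b) - 1), hΦ ?_⟩
    rw [← pow_succ, Nat.sub_add_cancel (orderOf_pos _), map_pow, pow_orderOf_eq_one, map_one]
  have horth : ∀ N, N ≠ 0 → ∑ a, χ N a = 0 := by
    intro N hN
    let Ψ : AddChar ↥(skew σ (k + 1)) ℂ := ⟨χ N, hχ0 N, hχ N⟩
    refine AddChar.sum_eq_zero_of_ne_one (ψ := Ψ) fun h => ?_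
    obtain ⟨i, j, c, hc⟩ := hpair N hN
    have h1 : χ N ⟨_, hsingle c i j⟩ = 1 := by
      show Ψ ⟨_, hsingle c i j⟩ = 1
      rw [h, AddChar.one_apply]
    rw [hχdef, hc, mul_one] at h1
    exact hγ h1
  have humem : ∀ a : ↥(skew σ (k + 1)),
      uMat (ε := ε) σ a.1 0 ∈ modelSub σ (k + 1) ε := fun a =>
    uMat_mem hσ2 (by rw [st_zero, Matrix.mul_zero, add_zero]; exact a.2)
  obtain ⟨R, hRdef⟩ : ∃ R : ↥(skew σ (k + 1)) → Module.End ℂ (Fin d → ℂ),
      ∀ a, R a = ρ (Φ ⟨_, humem a⟩) := ⟨_, fun a => rfl⟩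
  have hR : ∀ a b, R (a + b) = R a * R b := fun a b => by
    rw [hRdef, hRdef, hRdef, ← map_mul, ← map_mul]
    congr 2
    refine Subtype.ext ?_
    rw [Submonoid.coe_mul, uMat_mul, st_zero, Matrix.mul_zero, sub_zero, add_zero]
    rfl
  have hR0 : R 0 = 1 := by
    rw [hRdef, show (⟨_, humem 0⟩ : modelSub σ (k + 1) ε) = 1 from Subtype.ext uMat_zero, map_one, map_one]
  have hcard : (Fintype.card ↥(skew σ (k + 1)) : ℂ) ≠ 0 := Nat.cast_ne_zero.2 Fintype.card_ne_zero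
  -- the radical acts non-trivially
  obtain ⟨H₀, hH₀⟩ : ∃ H : ↥(skew σ (k + 1)), H.1 = Matrix.single 0 0 y₀ :=
    ⟨⟨_, show Matrix.single (0 : Fin (k + 1)) 0 y₀ + st σ _ = 0 by
      rw [st_single, ← Matrix.single_add, hy₀s, Matrix.single_zero]⟩, rfl⟩
  have hne1 : R H₀ ≠ 1 := by
    intro h1
    have hker : ρ.toHomUnits.ker ≤ Subgroup.center _ := by
      refine (su_normal hF hnormal _).resolve_right fun htop => ?_
      obtain ⟨g, hg⟩ := hρ
      have h2 := congrArg Units.val (MonoidHom.mem_ker.mp (htop ▸ Subgroup.mem_top g : g ∈ ρ.toHomUnits.ker))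
      rw [MonoidHom.coe_toHomUnits, Units.val_one] at h2
      exact hg h2
    have hk : Φ ⟨_, humem H₀⟩ ∈ ρ.toHomUnits.ker := by
      rw [MonoidHom.mem_ker]
      exact Units.ext (by rw [MonoidHom.coe_toHomUnits, ← hRdef, h1, Units.val_one])
    have hlo : loMat (k + 1) ε H₀.1 ∈ modelSub σ (k + 1) ε := loMat_mem H₀.2
    have hc := Subgroup.mem_center_iff.mp (hker hk) (Φ ⟨_, hlo⟩)
    rw [← map_mul, ← map_mul] at hc
    have hc2 := congrArg (fun A : modelSub σ (k + 1) ε => A.1 (Sum.inl (Sum.inl 0)) (Sum.inl (Sum.inl 0))) (hΦ hc)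
    simp [loMat, uMat, fromBlocks_multiply, hH₀, st_zero] at hc2
    exact hy₀ hc2
  -- a non-trivial character occurs
  obtain ⟨N, hN, v₁, hv₁, hv₁R⟩ : ∃ N, N ≠ 0 ∧ ∃ v : Fin d → ℂ, v ≠ 0 ∧ ∀ a, R a v = χ N a • v := by
    obtain ⟨Rm, hRm⟩ : ∃ Rm : ↥(skew σ (k + 1)) → Matrix (Fin d) (Fin d) ℂ, ∀ a, Rm a = LinearMap.toMatrix' (R a) :=
      ⟨_, fun a => rfl⟩
    have hRm2 : ∀ a b, Rm (a + b) = Rm a * Rm b := fun a b => by
      rw [hRm, hRm, hRm, hR, Module.End.mul_eq_comp, LinearMap.toMatrix'_comp]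
    have hRm0 : Rm 0 = 1 := by rw [hRm, hR0, LinearMap.toMatrix'_one]
    have hb : Rm H₀ ≠ 1 := fun h => hne1 (LinearMap.toMatrix'.injective (by
      rw [← hRm, h, LinearMap.toMatrix'_one]))
    obtain ⟨w, hw, hp⟩ := CharSupport.exists_proj_ne hχ hχ0 hsymm horth hRm2 hRm0 hcard hb
    obtain ⟨x, hx⟩ : ∃ x, CharSupport.proj χ Rm w *ᵥ x ≠ 0 := by
      by_contra hno
      push Not at hno
      exact hp (Matrix.ext_of_mulVec_single fun i => by rw [hno, Matrix.zero_mulVec])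
    refine ⟨w, hw, _, hx, fun a => ?_⟩
    have h1 := congrArg (fun A => A *ᵥ x) (CharSupport.mul_proj hχ hχ0 hRm2 a w)
    simp only [← Matrix.mulVec_mulVec, Matrix.smul_mulVec] at h1
    rw [← h1, hRm, LinearMap.toMatrix'_mulVec]
  obtain ⟨S, hS⟩ : ∃ S : Finset ↥(skew σ (k + 1)), S = Finset.univ.filter fun N' =>
      N' ≠ 0 ∧ ∃ v : Fin d → ℂ, v ≠ 0 ∧ ∀ a, R a v = χ N' a • v := ⟨_, rfl⟩
  -- the orbit of the character
  have horbit : q ^ (2 * (k + 1)) - 1 ≤ (q + 1) * (S.map ⟨Subtype.val, Subtype.val_injective⟩).card := by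
    refine orbit_ge (σ := σ) hF hσ2 ?_ ?_ ?_ (hskew N) (fun h => hN (Subtype.ext h)) _ fun g hg => ?_
    · rw [← card_fixed hF]
      exact Nat.card_congr (Equiv.subtypeEquivRight fun a => by rw [hσq])
    · refine le_of_eq (Eq.trans (Nat.card_congr (Equiv.subtypeEquivRight fun a => ?_))
        (card_norm_eq hF one_ne_zero (one_pow q)))
      rw [hσq, ← pow_succ]
    · intro a ha has
      obtain ⟨t, ht⟩ := exists_norm_fixed hne hσ2 ha has
      exact ⟨t, ht⟩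
    obtain ⟨B, hB⟩ : ∃ B, B = LinearMap.toMatrix' g.toLinearMap := ⟨_, rfl⟩
    obtain ⟨C, hC⟩ : ∃ C, C = LinearMap.toMatrix' g.symm.toLinearMap := ⟨_, rfl⟩
    have hCB : C * B = 1 := by
      rw [hB, hC, ← LinearMap.toMatrix'_comp, LinearEquiv.comp_coe, LinearEquiv.self_trans_symm,
        LinearEquiv.refl_toLinearMap, LinearMap.toMatrix'_id]
    have hBC : B * C = 1 := mul_eq_one_comm.mp hCB
    rw [← hB]
    have hd0 : B.det ≠ 0 := fun h => by
      have := congrArg Matrix.det hBC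
      rw [det_mul, h, zero_mul, det_one] at this
      exact zero_ne_one this
    have hdC : C.det = B.det⁻¹ := eq_inv_of_mul_eq_one_left (by rw [← det_mul, hCB, det_one])
    obtain ⟨μ, hμ1, hμ2⟩ : ∃ μ : F, σ μ * μ = 1 ∧ C.det * σ B.det * μ ^ ε = 1 := by
      have hs : σ B.det ≠ 0 := (map_ne_zero σ).2 hd0
      rcases hlev with h | ⟨h, hk⟩
      · refine ⟨B.det / σ B.det, ?_, ?_⟩
        · rw [map_div₀, hσ2]; field_simp
        · rw [h, hdC, pow_one]; field_simp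
      · refine ⟨1, by simp, ?_⟩
        have := hg hk
        rw [← LinearMap.det_toMatrix', ← hB] at this
        rw [h, hdC, this, pow_zero, mul_one, inv_mul_cancel₀ hd0]
    obtain ⟨N', hN'e, hN'0, v', hv', hv'R⟩ := occurring_conj hσ2 (ρ.comp Φ) hπinv ψ γ hN hv₁
      (fun a => by rw [← hχdef, ← hv₁R, hRdef]; rfl) hCB hμ1 hμ2
    rw [← hN'e]
    refine Finset.mem_map.2 ⟨N', ?_, rfl⟩
    rw [hS, Finset.mem_filter]
    exact ⟨Finset.mem_univ _, hN'0, v', hv', fun a => by rw [hRdef, hχdef]; exact hv'R a⟩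
  -- each character comes with q ^ ε vectors
  have hvec : ∀ w : ↥(skew σ (k + 1)), ∃ (X : (Fin ε → (RingHom.eqLocusField σ (RingHom.id F))) → Module.End ℂ (Fin d → ℂ)) (c : (Fin ε → (RingHom.eqLocusField σ (RingHom.id F))) → ℂ)
      (y : (Fin ε → (RingHom.eqLocusField σ (RingHom.id F))) → (Fin d → ℂ)), w ∈ S → (∀ t, c t ≠ 0) ∧ (∀ b, y b ≠ 0) ∧
        (∀ b a, R a (y b) = χ w a • y b) ∧
        ∀ b t, X t (y b) = (ψ (γ * ∑ e, (t e : F) * (b e : F)) * c t) • y b := by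
    intro w
    by_cases hw : w ∈ S
    swap
    · exact ⟨fun _ => 1, fun _ => 1, fun _ => 0, fun h => absurd h hw⟩
    rw [hS, Finset.mem_filter] at hw
    obtain ⟨-, hw0, v, hv, hvR⟩ := hw
    obtain ⟨i, j, c₁, hc₁⟩ := hpair w hw0
    obtain ⟨X, c, y, h1, h2, h3, h4⟩ := two_layers hσ2 ha₀ (ρ.comp Φ) hπinv ψ γ w hc₁ hv
      (fun a => by rw [← hχdef, ← hvR, hRdef]; rfl)
    exact ⟨X, c, y, fun _ => ⟨h1, h2, fun b a => by rw [hRdef, hχdef]; exact h3 b a, h4⟩⟩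
  choose X c y hXy using hvec
  obtain ⟨ev, hev⟩ : ∃ ev : ↥(skew σ (k + 1)) → (Fin ε → RingHom.eqLocusField σ (RingHom.id F)) →
      (Fin ε → RingHom.eqLocusField σ (RingHom.id F)) → ℂ,
      ∀ w b t, ev w b t = ψ (γ * ∑ e, (t e : F) * (b e : F)) * c w t := ⟨_, fun w b t => rfl⟩
  obtain ⟨η, hη⟩ : ∃ η : ↥(skew σ (k + 1)) → (Fin ε → RingHom.eqLocusField σ (RingHom.id F)) →
      (Fin ε → RingHom.eqLocusField σ (RingHom.id F)) → ℂ,
      ∀ w b t, η w b t = ψ (γ * ∑ e, -((t e : F) * (b e : F))) * (c w t)⁻¹ := ⟨_, fun w b t => rfl⟩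
  obtain ⟨cA, hcA⟩ : ∃ cA : ℂ, cA = Fintype.card ↥(skew σ (k + 1)) := ⟨_, rfl⟩
  obtain ⟨cT, hcT⟩ : ∃ cT : ℂ, cT = Fintype.card (Fin ε → RingHom.eqLocusField σ (RingHom.id F)) := ⟨_, rfl⟩
  have hcount : S.card * Fintype.card (Fin ε → RingHom.eqLocusField σ (RingHom.id F)) ≤
      Module.finrank ℂ (Fin d → ℂ) := by
    refine card_mul_card_le (E := Fin d → ℂ) R χ (fun u a => χ u (-a)) S (cA := cA) (by rw [hcA]; exact hcard) ?_ X
      ev η (cT := cT) (by rw [hcT]; exact Nat.cast_ne_zero.2 Fintype.card_ne_zero) ?_ y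
      (fun w hw => (hXy w hw).2.1) (fun w hw => (hXy w hw).2.2.1)
      (fun w hw b t => by rw [hev]; exact (hXy w hw).2.2.2 b t)
    · intro u _ w _
      split_ifs with h
      · subst h
        simp [← hχ, hχ0, hcA]
      · rw [← horth (w - u) (sub_ne_zero.2 h)]
        refine Finset.sum_congr rfl fun a _ => ?_
        rw [hχdef, hχdef, hχdef, ← AddChar.map_add_eq_mul, AddSubgroup.coe_neg, AddSubgroup.coe_sub, Matrix.mul_neg,
          Matrix.trace_neg, Matrix.sub_mul, Matrix.trace_sub]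
        congr 1; ring
    · intro w hw b b'
      have hsplit : ∀ t : Fin ε → (RingHom.eqLocusField σ (RingHom.id F)), ψ (γ * ∑ e, -((t e : F) * (b e : F))) * (c w t)⁻¹ *
          (ψ (γ * ∑ e, (t e : F) * (b' e : F)) * c w t) = ψ (γ * ∑ e, (t e : F) * ((b' e : F) - (b e : F))) := by
        intro t
        rw [show ψ (γ * ∑ e, -((t e : F) * (b e : F))) * (c w t)⁻¹ * (ψ (γ * ∑ e, (t e : F) * (b' e : F)) * c w t) =
          ψ (γ * ∑ e, -((t e : F) * (b e : F))) * ψ (γ * ∑ e, (t e : F) * (b' e : F)) by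
            have := (hXy w hw).1 t
            field_simp, ← AddChar.map_add_eq_mul, ← mul_add, ← Finset.sum_add_distrib]
        congr 2
        exact Finset.sum_congr rfl fun e _ => by ring
      rw [Finset.sum_congr rfl fun t _ => (congrArg₂ (· * ·) (hη w b t) (hev w b' t)).trans (hsplit t)]
      split_ifs with h
      · subst h; simp [hcT]
      · let Ω : AddChar (Fin ε → (RingHom.eqLocusField σ (RingHom.id F))) ℂ :=
          ⟨fun t => ψ (γ * ∑ e, (t e : F) * ((b' e : F) - (b e : F))), by simp, fun t t' => by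
            rw [← AddChar.map_add_eq_mul, ← mul_add, ← Finset.sum_add_distrib]
            congr 2
            exact Finset.sum_congr rfl fun e _ => by push_cast [Pi.add_apply]; ring⟩
        refine AddChar.sum_eq_zero_of_ne_one (ψ := Ω) fun h1 => ?_
        obtain ⟨e₀, he₀⟩ := Function.ne_iff.1 h
        have h2 : Ω (Pi.single e₀ ((b' e₀ - b e₀)⁻¹)) = 1 := by rw [h1, AddChar.one_apply]
        refine hγ ((congrArg ψ ?_).trans h2)
        show γ = γ * ∑ e, ((Pi.single e₀ ((b' e₀ - b e₀)⁻¹) : Fin ε → (RingHom.eqLocusField σ (RingHom.id F))) e : F) * ((b' e : F) - (b e : F))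
        rw [Finset.sum_eq_single e₀ (fun e _ he => by simp [he]) (by simp), Pi.single_eq_same, ← Subfield.coe_sub,
          ← Subfield.coe_mul, inv_mul_cancel₀ (sub_ne_zero.2 he₀), Subfield.coe_one, mul_one]
  rw [Finset.card_map] at horbit
  rw [Fintype.card_fun, Fintype.card_fin, hK₀c, Module.finrank_fin_fun] at hcount
  calc q ^ ε * (q ^ (2 * (k + 1)) - 1) ≤ q ^ ε * ((q + 1) * S.card) := Nat.mul_le_mul_left _ horbit
    _ = (q + 1) * (S.card * q ^ ε) := by ring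
    _ ≤ _ := Nat.mul_le_mul_left _ hcount

end Cfsg.Lib.Linear.SUDegree
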